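import Groth.Agent.L16.Bivar.Ops

/-!
# The representative shapes as identities on Chow groups
-/

set_option autoImplicit false
set_option linter.style.haveILetI false
set_option backward.isDefEq.respectTransparency false

universe u

open CategoryTheory CategoryTheory.Limits AlgebraicGeometry

noncomputable section

namespace Groth.L16.BivarOps

variable {T T' S S' D E : Scheme.{u}} {δT : T → ℤ} {δT' : T' → ℤ} {δS : S → ℤ} {δS' : S' → ℤ} {δD : D → ℤ}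
  {δE : E → ℤ} {k l k₁ l₁ : ℤ}

theorem push_apply {h : T ⟶ S} [IsProper h] {h' : T' ⟶ S'} [IsProper h']
    (hT : Cyc.IsSetup T δT) (hS : Cyc.IsSetup S δS) (hδ : Cyc.DeltaCompat h δT δS)
    (hT' : Cyc.IsSetup T' δT') (hS' : Cyc.IsSetup S' δS') (hδ' : Cyc.DeltaCompat h' δT' δS')
    {φ : ChowOps.CH T δT k →+ ChowOps.CH T' δT' l} {ψ : ChowOps.CH S δS k →+ ChowOps.CH S' δS' l}
    (hh : Bivar.PushOK δT δT' δS δS' h h' φ ψ) (z : ChowOps.CH T δT k) :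
    ψ (pushOp h hT hS hδ k z) = pushOp h' hT' hS' hδ' l (φ z) := by
  obtain ⟨α, hα, rfl⟩ := Bivar.exists_rep z
  obtain ⟨β, hβ, e, e'⟩ := hh α hα
  rw [pushOp_cl, e', e, pushOp_cl]

theorem pull_apply {h : T ⟶ S} [Flat h] [LocallyOfFiniteType h] {h' : T' ⟶ S'} [Flat h'] [LocallyOfFiniteType h']
    {r : ℕ} (hr : Cyc.HasRelDim h r) (hr' : Cyc.HasRelDim h' r)
    (hT : Cyc.IsSetup T δT) (hS : Cyc.IsSetup S δS) (hδ : Cyc.DeltaCompat h δT δS)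
    (hT' : Cyc.IsSetup T' δT') (hS' : Cyc.IsSetup S' δS') (hδ' : Cyc.DeltaCompat h' δT' δS')
    {φ : ChowOps.CH S δS k →+ ChowOps.CH S' δS' l}
    {ψ : ChowOps.CH T δT (k + r) →+ ChowOps.CH T' δT' l₁}
    (hh : Bivar.PullOK δS δS' δT δT' h h' (r : ℤ) φ ψ) (e : l + r = l₁) (z : ChowOps.CH S δS k) :
    ψ (pullOp h hr hT hS hδ k z) = Bivar.chCast T' δT' e (pullOp h' hr' hT' hS' hδ' l (φ z)) := by
  subst e
  obtain ⟨α, hα, rfl⟩ := Bivar.exists_rep z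
  obtain ⟨β, hβ, e, H⟩ := hh α hα
  obtain ⟨α₁, hα₁⟩ := exists_pullCycle h hr hT hδ α
  obtain ⟨β₁, hβ₁, e₁, f₁⟩ := H α₁ hα₁ (Bivar.pullFun_mem_Zk h δT δS r k hα α₁ hα₁)
  rw [pullOp_cl h hr hT hS hδ α hα α₁ hα₁ (Bivar.pullFun_mem_Zk h δT δS r k hα α₁ hα₁), f₁, e,
    pullOp_cl h' hr' hT' hS' hδ' β hβ β₁ e₁ hβ₁]
  rfl

theorem gysin₁_apply {i : D ⟶ S} [IsClosedImmersion i] (hS : Cyc.IsSetup S δS) (hi : δD = fun d => δS (i d))
    {L : S.Modules} (hL : PicF.IsInvertible L) {σ : L.presheaf.obj (Opposite.op ⊤)}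
    (hσ : Cyc.IsZeroSchemeOf i L σ) {φ : ChowOps.CH S δS k →+ ChowOps.CH S δS l}
    {ψ : ChowOps.CH D δD (k - 1) →+ ChowOps.CH D δD l₁}
    (hh : Bivar.GysinOK₁ δS δD i L σ φ ψ) (e : l - 1 = l₁) (z : ChowOps.CH S δS k) :
    ψ (gysinOp i hS hi hL hσ k z) = Bivar.chCast D δD e (gysinOp i hS hi hL hσ l (φ z)) := by
  subst e
  obtain ⟨α, hα, rfl⟩ := Bivar.exists_rep z
  obtain ⟨β, hβ, e, H⟩ := hh α hα
  obtain ⟨w, hw⟩ := exists_sec hL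
  obtain ⟨γ, hγ⟩ := exists_gysin i hS hL (σ := σ) α w hw
  obtain ⟨ζ, hζ, e₁, f₁⟩ := H w hw γ hγ (gysin_mem hi hα hγ)
  rw [gysinOp_cl i hS hi hL hσ α hα w hw γ hγ (gysin_mem hi hα hγ), f₁, e,
    gysinOp_cl i hS hi hL hσ β hβ w hw ζ e₁ hζ]
  rfl

theorem gysin_apply {i : D ⟶ S} [IsClosedImmersion i] (hS : Cyc.IsSetup S δS) (hi : δD = fun d => δS (i d))
    {L : S.Modules} (hL : PicF.IsInvertible L) {σ : L.presheaf.obj (Opposite.op ⊤)}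
    (hσ : Cyc.IsZeroSchemeOf i L σ) {j : E ⟶ S'} [IsClosedImmersion j] (hS' : Cyc.IsSetup S' δS')
    (hj : δE = fun d => δS' (j d)) {N : S'.Modules} (hN : PicF.IsInvertible N)
    {τ : N.presheaf.obj (Opposite.op ⊤)} (hτ : Cyc.IsZeroSchemeOf j N τ)
    {φ : ChowOps.CH S δS k →+ ChowOps.CH S' δS' l} {ψ : ChowOps.CH D δD (k - 1) →+ ChowOps.CH E δE l₁}
    (hh : Bivar.GysinOK δS δD δS' δE i L σ j N τ φ ψ) (e : l - 1 = l₁) (z : ChowOps.CH S δS k) :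
    ψ (gysinOp i hS hi hL hσ k z) = Bivar.chCast E δE e (gysinOp j hS' hj hN hτ l (φ z)) := by
  subst e
  obtain ⟨α, hα, rfl⟩ := Bivar.exists_rep z
  obtain ⟨β, hβ, e, H⟩ := hh α hα
  obtain ⟨w, hw⟩ := exists_sec hL
  obtain ⟨w', hw'⟩ := exists_sec hN
  obtain ⟨γ, hγ⟩ := exists_gysin i hS hL (σ := σ) α w hw
  obtain ⟨ζ, hζ, e₁, f₁⟩ := H w hw γ hγ (gysin_mem hi hα hγ) w' hw'
  rw [gysinOp_cl i hS hi hL hσ α hα w hw γ hγ (gysin_mem hi hα hγ), f₁, e,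
    gysinOp_cl j hS' hj hN hτ β hβ w' hw' ζ e₁ hζ]
  rfl

theorem chCast_irrel {X : Scheme.{u}} {δ : X → ℤ} {a b : ℤ} (e e' : a = b) (z : ChowOps.CH X δ a) :
    Bivar.chCast X δ e z = Bivar.chCast X δ e' z := rfl

theorem chCast_trans {X : Scheme.{u}} {δ : X → ℤ} {a b c : ℤ} (e : a = b) (e' : b = c)
    (z : ChowOps.CH X δ a) : Bivar.chCast X δ e' (Bivar.chCast X δ e z) = Bivar.chCast X δ (e.trans e') z := by
  subst e e'; rfl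

end Groth.L16.BivarOps
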