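import Groth.Agent.L16.Bivar.Ops
import Groth.Agent.L22.C1.Gysin

/-!
# The first Chern class as an operational class
-/

set_option autoImplicit false
set_option linter.style.haveILetI false
set_option backward.isDefEq.respectTransparency false

universe u

open CategoryTheory CategoryTheory.Limits AlgebraicGeometry

noncomputable section

namespace Groth.L16.BivarC1

open Groth.L16.BivarOps
open Groth.L22.C1 (exists_cycle_c1Cap gysinChoice_ne_zero)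

variable {S T : Scheme.{u}} {δS : S → ℤ} {δT : T → ℤ} {M : S.Modules} {M' : T.Modules}

theorem pushOK_c1 (h : T ⟶ S) [IsProper h] (hS : Cyc.IsSetup S δS) (hT : Cyc.IsSetup T δT)
    (hδ : Cyc.DeltaCompat h δT δS) (hM : PicF.IsInvertible M) (hM' : PicF.IsInvertible M')
    (e : (Scheme.Modules.pullback h).obj M ≅ M') (k : ℤ) :
    Bivar.PushOK δT δT δS δS h h (c1Op hT hM' k) (c1Op hS hM k) := by
  haveI := hT.1
  intro α hα
  have hh := Groth.L18.Ample.isInvertible_pullback h hM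
  obtain ⟨u, hu⟩ := exists_sec hh
  obtain ⟨γ, hγ⟩ := exists_cycle_c1Cap hT.2.2 hh α u hu
  refine ⟨γ, c1_mem hα hγ, (c1Op_iso hT hh e hM' _).symm.trans (c1Op_cl hT hh α hα u hu γ hγ _), ?_⟩
  rw [← pushOp_cl h hT hS hδ α hα, c1Op_pushOp h hT hS hδ hM hh, c1Op_cl hT hh α hα u hu γ hγ (c1_mem hα hγ),
    pushOp_cl]

theorem pullOK_c1 (h : T ⟶ S) [Flat h] [LocallyOfFiniteType h] {r : ℕ} (hr : Cyc.HasRelDim h r)
    (hS : Cyc.IsSetup S δS) (hT : Cyc.IsSetup T δT) (hδ : Cyc.DeltaCompat h δT δS)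
    (hM : PicF.IsInvertible M) (hM' : PicF.IsInvertible M')
    (e : (Scheme.Modules.pullback h).obj M ≅ M') (k : ℤ) :
    Bivar.PullOK δS δS δT δT h h (r : ℤ) (c1Op hS hM k) (c1Op hT hM' (k + r)) := by
  haveI := hT.1
  haveI := hS.1
  intro α hα
  have hh := Groth.L18.Ample.isInvertible_pullback h hM
  obtain ⟨v, hv⟩ := exists_sec hM
  obtain ⟨γ, hγ⟩ := exists_cycle_c1Cap hS.2.2 hM α v hv
  refine ⟨γ, c1_mem hα hγ, c1Op_cl hS hM α hα v hv γ hγ _, fun α₁ h₁ hα₁ => ?_⟩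
  obtain ⟨u, hu⟩ := exists_sec hh
  obtain ⟨γ₂, hγ₂⟩ := exists_cycle_c1Cap hT.2.2 hh α₁ u hu
  obtain ⟨β₁, hβ₁⟩ := exists_pullCycle h hr hT hδ γ
  have hm := Bivar.pullFun_mem_Zk h δT δS r (k - 1) (c1_mem hα hγ) β₁ hβ₁
  have e₁ : k + (r : ℤ) - 1 = k - 1 + r := by ring
  refine ⟨β₁, e₁ ▸ hm, hβ₁, ?_⟩
  rw [← c1Op_iso hT hh e hM', c1Op_cl hT hh α₁ hα₁ u hu γ₂ hγ₂ (c1_mem hα₁ hγ₂)]
  refine (cl_eq_of_rat _ _ ?_).symm
  exact Groth.L22.C1.c1Cap_pullFun h hT.2.2 hS.2.2 hM (r : ℤ) (shift h hr hδ) k α hα v hv u hu β₁ γ₂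
    (by rw [hβ₁, hγ]) (by rw [hγ₂, h₁])

theorem gysinOK_c1 (i : T ⟶ S) [IsClosedImmersion i] (hS : Cyc.IsSetup S δS)
    (hT : Cyc.IsSetup T δT) (hi : δT = fun d => δS (i d))
    (hM : PicF.IsInvertible M) (hM' : PicF.IsInvertible M')
    (e : (Scheme.Modules.pullback i).obj M ≅ M') {L : S.Modules} (hL : PicF.IsInvertible L)
    (σ : L.presheaf.obj (Opposite.op ⊤)) (hσ : Cyc.IsZeroSchemeOf i L σ) (k : ℤ) :
    Bivar.GysinOK₁ δS δT i L σ (c1Op hS hM k) (c1Op hT hM' (k - 1)) := by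
  haveI := hT.1
  haveI := hS.1
  intro α hα
  have hh := Groth.L18.Ample.isInvertible_pullback i hM
  obtain ⟨v, hv⟩ := exists_sec hM
  obtain ⟨β, hβ⟩ := exists_cycle_c1Cap hS.2.2 hM α v hv
  refine ⟨β, c1_mem hα hβ, c1Op_cl hS hM α hα v hv β hβ _, fun w hw γ hγc hγ => ?_⟩
  obtain ⟨t, ht⟩ := exists_sec hh
  obtain ⟨ζ₂, hζ₂⟩ := exists_cycle_c1Cap hT.2.2 hh γ t ht
  obtain ⟨ζ, hζ⟩ := exists_gysin i hS hL (σ := σ) β w hw
  have e₁ : k - 1 - 1 = k - 2 := by ring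
  refine ⟨ζ, gysin_mem hi (c1_mem hα hβ) hζ, hζ, ?_⟩
  rw [← c1Op_iso hT hh e hM', c1Op_cl hT hh γ hγ t ht ζ₂ hζ₂ (c1_mem hγ hζ₂)]
  refine (cl_eq_of_rat _ _ ?_).symm
  subst hi
  rw [e₁]
  exact Groth.L22.C1.gysin_c1Cap hS.2.2 hL hM i σ hσ k α hα w hw v hv t ht _ rfl ζ ζ₂
    (fun d => by rw [hζ, hβ]) (by rw [hζ₂, funext hγc])

section Class

variable {X : Scheme.{u}} {δX : X → ℤ} (hX : Cyc.IsSetup X δX) {L : X.Modules} (hL : PicF.IsInvertible L)

include hX in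
theorem setupOSq (s : Bivar.OSq X δX) : Cyc.IsSetup s.Y s.δ :=
  haveI := s.lft
  setup_of_compat s.g hX s.compat

/-- The comparison of pullbacks along a morphism of test schemes. -/
def pullIso {s t : Bivar.OSq X δX} (h : t.Y ⟶ s.Y) (w : h ≫ s.g = t.g) (L : X.Modules) :
    (Scheme.Modules.pullback h).obj ((Scheme.Modules.pullback s.g).obj L) ≅
      (Scheme.Modules.pullback t.g).obj L :=
  (Scheme.Modules.pullbackComp h s.g).app L ≪≫ (Scheme.Modules.pullbackCongr w).app L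

/-- The first Chern class. -/
def c1Class : Bivar.OpCl 1 X δX where
  op s k := c1Op (setupOSq hX s) (Groth.L18.Ample.isInvertible_pullback s.g hL) k
  push s t h _ w k :=
    pushOK_c1 h (setupOSq hX s) (setupOSq hX t)
      (Groth.L22.Bundle.deltaCompat_cancel h s.g (w.symm ▸ t.compat) s.compat) _ _ (pullIso h w L) k
  pull s t h _ r hr w k := by
    haveI : LocallyOfFiniteType (h ≫ s.g) := w.symm ▸ t.lft
    haveI := locallyOfFiniteType_of_comp h s.g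
    exact pullOK_c1 h hr (setupOSq hX s) (setupOSq hX t)
      (Groth.L22.Bundle.deltaCompat_cancel h s.g (w.symm ▸ t.compat) s.compat) _ _ (pullIso h w L) k
  gysin s t i _ w L' hL' σ hσ k :=
    gysinOK_c1 i (setupOSq hX s) (setupOSq hX t)
      (delta_closedImmersion i (Groth.L22.Bundle.deltaCompat_cancel i s.g (w.symm ▸ t.compat) s.compat))
      _ _ (pullIso i w L) hL' σ hσ k

theorem isC1Class_c1Class : Bivar.IsC1Class L (c1Class hX hL) :=
  ⟨hL, fun s _ α hα v hv γ hγ hγm =>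
    c1Op_cl (setupOSq hX s) (Groth.L18.Ample.isInvertible_pullback s.g hL) α hα v hv γ hγ hγm⟩

include hX in
theorem op_eq {c : Bivar.OpCl 1 X δX} (hc : Bivar.IsC1Class L c) (s : Bivar.OSq X δX) (k : ℤ)
    (z : ChowOps.CH s.Y s.δ k) :
    c.op s k z = c1Op (setupOSq hX s) (Groth.L18.Ample.isInvertible_pullback s.g hc.1) k z := by
  haveI := (setupOSq hX s).1
  obtain ⟨α, hα, rfl⟩ := Bivar.exists_rep z
  have hs := Groth.L18.Ample.isInvertible_pullback s.g hc.1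
  obtain ⟨v, hv⟩ := exists_sec hs
  obtain ⟨γ, hγ⟩ := exists_cycle_c1Cap (setupOSq hX s).2.2 hs α v hv
  rw [hc.2 s k α hα v hv γ hγ (c1_mem hα hγ), c1Op_cl _ hs α hα v hv γ hγ]

end Class

end Groth.L16.BivarC1
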