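import Groth.Agent.L16.Bivar.Squares

/-!
# Chow groups of a disjoint union of open subschemes
-/

set_option autoImplicit false
set_option linter.style.haveILetI false
set_option linter.unusedSectionVars false
set_option backward.isDefEq.respectTransparency false

universe u

open CategoryTheory CategoryTheory.Limits AlgebraicGeometry

noncomputable section

namespace Groth.L16.BivarOps

variable {X Y W V : Scheme.{u}} {δ : X → ℤ} {δY : Y → ℤ} {δW : W → ℤ} {δV : V → ℤ} {k : ℤ}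

theorem hasRelDim_openImmersion (j : W ⟶ X) [IsOpenImmersion j] : Cyc.HasRelDim j 0 :=
  Groth.L22.Cyc.hasRelDim_of_rtrdeg j fun x _ => by rw [Groth.L22.Bundle.rtrdeg_eq_zero, Nat.cast_zero]

theorem deltaCompat_openImmersion (j : W ⟶ X) [IsOpenImmersion j] (δ : X → ℤ) :
    Cyc.DeltaCompat j (fun w => δ (j w)) δ := fun x =>
  ⟨0, (Groth.L22.Bundle.rtrdeg_eq_zero j x).trans Nat.cast_zero.symm, by simp⟩

theorem delta_openImmersion (j : W ⟶ X) [IsOpenImmersion j] (h : Cyc.DeltaCompat j δW δ) :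
    δW = fun w => δ (j w) :=
  BivarEnv.deltaCompat_unique j h (deltaCompat_openImmersion j δ)

/-- Restriction to an open subscheme. -/
def resOp (j : W ⟶ X) [IsOpenImmersion j] (hX : Cyc.IsSetup X δ) (hW : Cyc.IsSetup W δW)
    (hδ : Cyc.DeltaCompat j δW δ) (k : ℤ) : ChowOps.CH X δ k →+ ChowOps.CH W δW k :=
  (Bivar.chCast W δW (show k + ((0 : ℕ) : ℤ) = k by simp)).toAddMonoidHom.comp
    (pullOp j (hasRelDim_openImmersion j) hW hX hδ k)

theorem pullFun_openImmersion (j : W ⟶ X) [IsOpenImmersion j] (hW : Cyc.IsSetup W δW)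
    (hδ : Cyc.DeltaCompat j δW δ) (α : X → ℤ) (w : W) :
    Cyc.pullFun j δW δ ((0 : ℕ) : ℤ) α w = α (j w) := by
  haveI := hW.1
  rw [Groth.L22.Cyc.pullFun_eq' j (shift j (hasRelDim_openImmersion j) hδ)]
  dsimp only
  rw [Groth.L22.Bundle.mult_openImmersion j w]
  simp

theorem exists_resCycle (j : W ⟶ X) [IsOpenImmersion j] (hW : Cyc.IsSetup W δW) (hδ : Cyc.DeltaCompat j δW δ)
    (α : AlgebraicCycle X ℤ) : ∃ γ : AlgebraicCycle W ℤ, ∀ w, γ w = α (j w) := by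
  obtain ⟨γ, hγ⟩ := exists_pullCycle j (hasRelDim_openImmersion j) hW hδ α
  exact ⟨γ, fun w => by rw [hγ, pullFun_openImmersion j hW hδ]⟩

theorem res_mem (j : W ⟶ X) [IsOpenImmersion j] (hδ : Cyc.DeltaCompat j δW δ) {α : AlgebraicCycle X ℤ}
    (hα : α ∈ Cyc.Zk X δ k) {γ : AlgebraicCycle W ℤ} (hγ : ∀ w, γ w = α (j w)) : γ ∈ Cyc.Zk W δW k :=
  fun w hw => by
    rw [hγ]
    exact hα _ fun e => hw ((congrFun (delta_openImmersion j hδ) w).trans e)

theorem resOp_cl (j : W ⟶ X) [IsOpenImmersion j] (hX : Cyc.IsSetup X δ) (hW : Cyc.IsSetup W δW)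
    (hδ : Cyc.DeltaCompat j δW δ) (α : AlgebraicCycle X ℤ) (hα : α ∈ Cyc.Zk X δ k) (γ : AlgebraicCycle W ℤ)
    (hγ : ∀ w, γ w = α (j w)) (hγm : γ ∈ Cyc.Zk W δW k) :
    resOp j hX hW hδ k (ChowOps.cl α hα) = ChowOps.cl γ hγm := by
  have hfun : ⇑γ = Cyc.pullFun j δW δ ((0 : ℕ) : ℤ) ⇑α := funext fun w => by
    rw [hγ, pullFun_openImmersion j hW hδ]
  show Bivar.chCast W δW _ (pullOp j _ hW hX hδ k (ChowOps.cl α hα)) = _
  rw [pullOp_cl j (hasRelDim_openImmersion j) hW hX hδ α hα γ hfun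
    (Bivar.pullFun_mem_Zk j δW δ _ k hα γ hfun), Bivar.chCast_cl]

section Commute

variable (j : W ⟶ X) [IsOpenImmersion j] (j' : V ⟶ Y) [IsOpenImmersion j']

theorem resOp_pushOp (h : X ⟶ Y) [IsProper h] (h' : W ⟶ V) [IsProper h'] (sq : IsPullback j h' h j')
    (hX : Cyc.IsSetup X δ) (hY : Cyc.IsSetup Y δY) (hW : Cyc.IsSetup W δW) (hV : Cyc.IsSetup V δV)
    (hj : Cyc.DeltaCompat j δW δ) (hj' : Cyc.DeltaCompat j' δV δY) (hh : Cyc.DeltaCompat h δ δY)
    (hh' : Cyc.DeltaCompat h' δW δV) (z : ChowOps.CH X δ k) :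
    resOp j' hY hV hj' k (pushOp h hX hY hh k z) = pushOp h' hW hV hh' k (resOp j hX hW hj k z) := by
  have e := pullOp_pushOp_bc h j' h' j sq (hasRelDim_openImmersion j') (hasRelDim_openImmersion j) hX hY hW hV
    hh hj' hh' hj z
  show Bivar.chCast V δV _ _ = pushOp h' hW hV hh' k (Bivar.chCast W δW _ _)
  rw [e, chCast_pushOp]

theorem resOp_pullOp (h : X ⟶ Y) [Flat h] [LocallyOfFiniteType h] (h' : W ⟶ V) [Flat h'] [LocallyOfFiniteType h']
    (w : h' ≫ j' = j ≫ h) {r : ℕ} (hr : Cyc.HasRelDim h r) (hr' : Cyc.HasRelDim h' r)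
    (hX : Cyc.IsSetup X δ) (hY : Cyc.IsSetup Y δY) (hW : Cyc.IsSetup W δW) (hV : Cyc.IsSetup V δV)
    (hj : Cyc.DeltaCompat j δW δ) (hj' : Cyc.DeltaCompat j' δV δY) (hh : Cyc.DeltaCompat h δ δY)
    (hh' : Cyc.DeltaCompat h' δW δV) (z : ChowOps.CH Y δY k) :
    resOp j hX hW hj (k + r) (pullOp h hr hX hY hh k z) =
      pullOp h' hr' hW hV hh' k (resOp j' hY hV hj' k z) := by
  have e := pullOp_pullOp_comm j h h' j' w.symm (hasRelDim_openImmersion j) hr hr' (hasRelDim_openImmersion j')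
    hW hX hV hY hj hh hh' hj' (show k + (r : ℤ) + ((0 : ℕ) : ℤ) = k + ((0 : ℕ) : ℤ) + r by simp) z
  show Bivar.chCast W δW _ _ = pullOp h' hr' hW hV hh' k (Bivar.chCast V δV _ _)
  rw [chCast_pullOp, ← e, chCast_trans]

theorem resOp_gysinOp (i : X ⟶ Y) [IsClosedImmersion i] (i' : W ⟶ V) [IsClosedImmersion i']
    (sq : IsPullback i' j j' i) (hX : Cyc.IsSetup X δ) (hY : Cyc.IsSetup Y δY) (hW : Cyc.IsSetup W δW)
    (hV : Cyc.IsSetup V δV) (hj : Cyc.DeltaCompat j δW δ) (hj' : Cyc.DeltaCompat j' δV δY)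
    (hi : δ = fun d => δY (i d)) (hi' : δW = fun d => δV (i' d))
    {L : Y.Modules} (hL : PicF.IsInvertible L) {σ : L.presheaf.obj (Opposite.op ⊤)}
    (hσ : Cyc.IsZeroSchemeOf i L σ) {N : V.Modules} (hN : PicF.IsInvertible N)
    {τ : N.presheaf.obj (Opposite.op ⊤)} (hτ : Cyc.IsZeroSchemeOf i' N τ)
    (φ : (Scheme.Modules.pullback j').obj L ≅ N) (z : ChowOps.CH Y δY k) :
    resOp j hX hW hj (k - 1) (gysinOp i hY hi hL hσ k z) =
      gysinOp i' hV hi' hN hτ k (resOp j' hY hV hj' k z) := by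
  have e := gysinOp_pullOp_bc j' i i' j sq (hasRelDim_openImmersion j') (hasRelDim_openImmersion j) hY hV hX hW
    hj' hj hi hi' hL hσ hN hτ φ (show k + ((0 : ℕ) : ℤ) - 1 = k - 1 + ((0 : ℕ) : ℤ) by simp) z
  show Bivar.chCast W δW _ _ = gysinOp i' hV hi' hN hτ k (Bivar.chCast V δV _ _)
  rw [chCast_gysinOp, ← e, chCast_trans]

end Commute

section Family

variable {J : Type u} {U : J → Scheme.{u}} {δU : ∀ a, U a → ℤ} (j : ∀ a, U a ⟶ X) [∀ a, IsOpenImmersion (j a)]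
  (hdisj : ∀ a b, a ≠ b → Disjoint (Set.range (j a)) (Set.range (j b)))
  (hcov : ∀ x : X, ∃ a, x ∈ Set.range (j a))
  (hX : Cyc.IsSetup X δ) (hU : ∀ a, Cyc.IsSetup (U a) (δU a)) (hδ : ∀ a, Cyc.DeltaCompat (j a) (δU a) δ)

include hdisj in
theorem eq_of_specializes {a b : J} {v : U a} {w : U b} (h : j a v ⤳ j b w) : a = b := by
  by_contra hab
  exact Set.disjoint_left.1 (hdisj a b hab) ⟨v, rfl⟩
    (h.mem_open (j b).isOpenEmbedding.isOpen_range ⟨w, rfl⟩)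

include hdisj in
theorem eq_of_apply_eq {a b : J} {v : U a} {w : U b} (h : j a v = j b w) : a = b :=
  eq_of_specializes j hdisj (specializes_of_eq h)

include hdisj hcov hX hU hδ in
theorem resOp_injective (z z' : ChowOps.CH X δ k)
    (h : ∀ a, resOp (j a) hX (hU a) (hδ a) k z = resOp (j a) hX (hU a) (hδ a) k z') : z = z' := by
  haveI := hX.1
  obtain ⟨α, hα, rfl⟩ := Bivar.exists_rep z
  obtain ⟨β, hβ, rfl⟩ := Bivar.exists_rep z'
  have hrat : ∀ a, ∃ (ι : Type u) (ξ : ι → U a) (f : (i : ι) → (U a).residueField (ξ i)),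
      (∀ i, δU a (ξ i) = k + 1) ∧ (∀ i, f i ≠ 0) ∧
      (∀ x : U a, ∃ O : Set (U a), IsOpen O ∧ x ∈ O ∧ {i | (closure {ξ i} ∩ O).Nonempty}.Finite) ∧
      ∀ x : U a, α (j a x) - β (j a x) = ∑ᶠ i, Cyc.divFun (δU a) (ξ i) (f i) x := by
    intro a
    obtain ⟨γ, hγ⟩ := exists_resCycle (j a) (hU a) (hδ a) α
    obtain ⟨γ', hγ'⟩ := exists_resCycle (j a) (hU a) (hδ a) β
    have e := h a
    rw [resOp_cl (j a) hX (hU a) (hδ a) α hα γ hγ (res_mem (j a) (hδ a) hα hγ),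
      resOp_cl (j a) hX (hU a) (hδ a) β hβ γ' hγ' (res_mem (j a) (hδ a) hβ hγ')] at e
    obtain ⟨ι, ξ, f, h1, h2, h3, h4⟩ := rat_of_cl_eq (hU a) _ _ e
    refine ⟨ι, ξ, f, h1, h2, h3, fun x => ?_⟩
    rw [← h4 x, Function.locallyFinsuppWithin.coe_sub, Pi.sub_apply, hγ, hγ']
  choose ι ξ f h1 h2 h3 h4 using hrat
  choose g hg using fun (p : Σ a, ι a) => (Groth.L22.FibreDim.residueFieldMap_bijective (j p.1) (ξ p.1 p.2)).2 (f p.1 p.2)
  refine cl_eq_of_rat _ _ ⟨Σ a, ι a, fun p => j p.1 (ξ p.1 p.2), g, fun p => ?_, fun p hp => ?_, fun x => ?_,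
    fun x => ?_⟩
  · rw [← h1 p.1 p.2, congrFun (delta_openImmersion (j p.1) (hδ p.1)) (ξ p.1 p.2)]
  · exact h2 p.1 p.2 (by rw [← hg p, hp, map_zero])
  · obtain ⟨a, w, rfl⟩ := hcov x
    obtain ⟨O, hO, hwO, hfin⟩ := h3 a w
    refine ⟨j a '' O, (j a).isOpenEmbedding.isOpenMap O hO, ⟨w, hwO, rfl⟩, (hfin.image (Sigma.mk a)).subset ?_⟩
    rintro ⟨b, i⟩ ⟨y, hy, v, hvO, rfl⟩
    have hsp : j b (ξ b i) ⤳ j a v := specializes_iff_mem_closure.2 hy
    obtain rfl := eq_of_specializes j hdisj hsp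
    exact ⟨i, ⟨v, specializes_iff_mem_closure.1 ((j b).isOpenEmbedding.isInducing.specializes_iff.1 hsp), hvO⟩, rfl⟩
  · obtain ⟨a, w, rfl⟩ := hcov x
    rw [Function.locallyFinsuppWithin.coe_sub, Pi.sub_apply, h4 a w]
    have hterm : ∀ i, Cyc.divFun δ (j a (ξ a i)) (g ⟨a, i⟩) (j a w) = Cyc.divFun (δU a) (ξ a i) (f a i) w := by
      intro i
      haveI := (hU a).1
      have hd := delta_openImmersion (j a) (hδ a)
      have hdim : Cyc.IsDimFun (U a) fun w => δ (j a w) := hd ▸ (hU a).2.2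
      rw [← Groth.L22.Bundle.divFun_preimmersion (j a) hX.2.2 hdim (ξ a i) (g ⟨a, i⟩)
        (fun h0 => h2 a i (by rw [← hg ⟨a, i⟩, h0, map_zero])) w, ← hd, ← hg ⟨a, i⟩]
    rw [← finsum_mem_univ (f := fun i : Σ b, ι b => Cyc.divFun δ (j i.1 (ξ i.1 i.2)) (g i) (j a w)),
      finsum_mem_inter_support_eq' _ Set.univ (Set.range (Sigma.mk a)) fun p hp => ?_,
      finsum_mem_range sigma_mk_injective]
    · exact finsum_congr fun i => (hterm i).symm
    · refine ⟨fun _ => ?_, fun _ => trivial⟩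
      obtain ⟨b, i⟩ := p
      obtain rfl := eq_of_specializes j hdisj (Groth.L22.C1.divFun_ne_zero hp).1
      exact ⟨i, rfl⟩

include hdisj hcov hX hU hδ in
theorem resOp_surjective (y : ∀ a, ChowOps.CH (U a) (δU a) k) :
    ∃ z : ChowOps.CH X δ k, ∀ a, resOp (j a) hX (hU a) (hδ a) k z = y a := by
  classical
  choose γ hγ hy using fun a => Bivar.exists_rep (y a)
  choose a w haw using hcov
  obtain ⟨α, hα⟩ := Groth.L22.C1.exists_cycle (fun x : X => γ (a x) (w x)) fun x => by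
    obtain ⟨O, hO, hxO, -⟩ := exists_isAffineOpen_mem_and_subset (x := w x) (U := ⊤) trivial
    refine ⟨(j (a x)) ''ᵁ O, ⟨w x, hxO, haw x⟩, (((γ (a x)).locallyFiniteSupport.finite_inter_support_of_isCompact
      hO.isCompact).image (j (a x))).subset fun y hy => ?_⟩
    obtain ⟨v, hv, hvy⟩ := hy.2
    have e : a y = a x := eq_of_apply_eq j hdisj ((haw y).trans hvy.symm)
    have key : ∀ (b : J) (v' : U b), b = a x → j b v' = j (a x) v → γ b v' = γ (a x) v := by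
      rintro b v' rfl h'
      rw [(j (a x)).isOpenEmbedding.injective h']
    exact ⟨v, ⟨hv, fun h0 => hy.1 ((key _ (w y) e ((haw y).trans hvy.symm)).trans h0)⟩, hvy⟩
  have key : ∀ (b : J) (v : U b), α (j b v) = γ b v := fun b v => by
    rw [hα]
    have e : a (j b v) = b := eq_of_apply_eq j hdisj (haw (j b v))
    have : ∀ (c : J) (v' : U c), c = b → j c v' = j b v → γ c v' = γ b v := by
      rintro c v' rfl h'
      rw [(j c).isOpenEmbedding.injective h']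
    exact this _ _ e (haw _)
  have hαm : α ∈ Cyc.Zk X δ k := fun x hx => by
    rw [hα]
    exact hγ (a x) (w x) fun e => hx ((congrArg δ (haw x)).symm.trans
      ((congrFun (delta_openImmersion (j (a x)) (hδ (a x))) (w x)).symm.trans e))
  exact ⟨ChowOps.cl α hαm, fun b =>
    (resOp_cl (j b) hX (hU b) (hδ b) α hαm (γ b) (fun v => (key b v).symm) (hγ b)).trans (hy b)⟩

end Family

end Groth.L16.BivarOps
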