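import Groth.Agent.L16.Bivar.Apply
import Groth.Agent.L22.C1.GysinComm
import Groth.Agent.L22.Cyc.PushPull
import Groth.Agent.L22.Cyc.BaseChange
import Groth.Agent.L22.Cyc.P1Zero
import Groth.Agent.L22.Bundle.AffBundle
import Groth.Agent.S1859

/-!
# Push-forward, flat pullback and Gysin maps commute
-/

set_option autoImplicit false
set_option linter.style.haveILetI false
set_option backward.isDefEq.respectTransparency false

universe u

open CategoryTheory CategoryTheory.Limits AlgebraicGeometry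

noncomputable section

namespace Groth.L16.BivarOps

open Groth.L22.C1 (gysinChoice_ne_zero)
open Groth.L18.Frame (pull)

section Iso

variable {P E D : Scheme.{u}} {δP : P → ℤ} {δE : E → ℤ} {δD : D → ℤ} {k : ℤ}

theorem iso_setup (θ : E ⟶ P) [IsIso θ] (hP : Cyc.IsSetup P δP) (hE : δE = fun e => δP (θ e)) :
    Cyc.IsSetup E δE := hE ▸ Groth.L22.C1.isSetup_closedImmersion θ hP

theorem map_iso_apply (θ : E ⟶ P) [IsIso θ] (hE : δE = fun e => δP (θ e)) (α : AlgebraicCycle E ℤ) (e : E) :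
    AlgebraicCycle.map θ δE δP α (θ e) = α e := by
  subst hE
  exact Groth.L22.C1.map_apply_closedImmersion θ δP α e

theorem iso_inv_apply (θ : E ⟶ P) [IsIso θ] (e : E) : (inv θ) (θ e) = e := by
  rw [← Scheme.Hom.comp_apply, IsIso.hom_inv_id]
  rfl

theorem iso_apply_inv (θ : E ⟶ P) [IsIso θ] (p : P) : θ ((inv θ) p) = p := by
  rw [← Scheme.Hom.comp_apply, IsIso.inv_hom_id]
  rfl

theorem iso_delta_inv (θ : E ⟶ P) [IsIso θ] (hE : δE = fun e => δP (θ e)) :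
    δP = fun p => δE ((inv θ) p) := by
  funext p
  rw [hE]
  exact (congrArg δP (iso_apply_inv θ p)).symm

theorem pushOp_iso_injective (θ : E ⟶ P) [IsIso θ] (hE : Cyc.IsSetup E δE) (hP : Cyc.IsSetup P δP)
    (hθ : Cyc.DeltaCompat θ δE δP) : Function.Injective (pushOp θ hE hP hθ k) := by
  intro a b hab
  obtain ⟨α, hα, rfl⟩ := Bivar.exists_rep a
  obtain ⟨β, hβ, rfl⟩ := Bivar.exists_rep b
  have he := delta_closedImmersion θ hθ
  have hinv : Cyc.DeltaCompat (inv θ) δP δE := by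
    have := Groth.L22.C1.deltaCompat_closedImmersion (inv θ) δE
    rwa [← iso_delta_inv θ he] at this
  have key : ∀ (c : AlgebraicCycle E ℤ),
      AlgebraicCycle.map (inv θ) δP δE (AlgebraicCycle.map θ δE δP c) = c := fun c => by
    refine DFunLike.coe_injective (funext fun e => ?_)
    conv_lhs => rw [← iso_inv_apply θ e]
    rw [map_iso_apply (inv θ) (iso_delta_inv θ he), map_iso_apply θ he]
  have := congrArg (pushOp (inv θ) hP hE hinv k) hab
  rw [pushOp_cl, pushOp_cl, pushOp_cl, pushOp_cl] at this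
  exact (Bivar.cl_congr (key α).symm _ _).trans (this.trans (Bivar.cl_congr (key β) _ _))

theorem map_congr {X Y : Scheme.{u}} {δX : X → ℤ} {δY : Y → ℤ} {f f' : X ⟶ Y} [QuasiCompact f] [QuasiCompact f']
    (h : f = f') (α : AlgebraicCycle X ℤ) : AlgebraicCycle.map f δX δY α = AlgebraicCycle.map f' δX δY α := by
  subst h; rfl

theorem pushOp_comp {X Y Z : Scheme.{u}} {δX : X → ℤ} {δY : Y → ℤ} {δZ : Z → ℤ} (f : X ⟶ Y) (g : Y ⟶ Z)
    (h : X ⟶ Z) [IsProper f] [IsProper g] [IsProper h] (w : f ≫ g = h) (hX : Cyc.IsSetup X δX)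
    (hY : Cyc.IsSetup Y δY) (hZ : Cyc.IsSetup Z δZ) (hf : Cyc.DeltaCompat f δX δY)
    (hg : Cyc.DeltaCompat g δY δZ) (hh : Cyc.DeltaCompat h δX δZ) (z : ChowOps.CH X δX k) :
    pushOp g hY hZ hg k (pushOp f hX hY hf k z) = pushOp h hX hZ hh k z := by
  subst w
  obtain ⟨α, hα, rfl⟩ := Bivar.exists_rep z
  exact Bivar.cl_congr (Groth.Agent.S1859.result X Y Z δX δY δZ hX hY hZ f g hf hg k α hα) _ _

end Iso

section Indep

variable {S D E : Scheme.{u}} {δS : S → ℤ} {δD : D → ℤ} {δE : E → ℤ} {k : ℤ}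

/-- The Gysin map only depends on the zero scheme and the isomorphism class of the invertible module. -/
theorem gysinOp_indep (i : D ⟶ S) [IsClosedImmersion i] (hS : Cyc.IsSetup S δS) (hi : δD = fun d => δS (i d))
    {L M : S.Modules} (φ : L ≅ M) (hL : PicF.IsInvertible L) (hM : PicF.IsInvertible M)
    {σ : L.presheaf.obj (Opposite.op ⊤)} (hσ : Cyc.IsZeroSchemeOf i L σ)
    {τ : M.presheaf.obj (Opposite.op ⊤)} (hτ : Cyc.IsZeroSchemeOf i M τ) (z : ChowOps.CH S δS k) :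
    gysinOp i hS hi hL hσ k z = gysinOp i hS hi hM hτ k z := by
  haveI := hS.1
  haveI : IsLocallyNoetherian D := LocallyOfFiniteType.isLocallyNoetherian i
  obtain ⟨α, hα, rfl⟩ := Bivar.exists_rep z
  obtain ⟨w, hw⟩ := exists_sec hL
  let w' : (ξ : S) → Cyc.secFibre M ξ := fun ξ => Groth.L22.C1.mapSec φ.hom ξ (w ξ)
  have hw' : ∀ ξ, w' ξ ≠ 0 := fun ξ => Groth.L22.C1.mapSec_ne_zero φ.hom hL hM ξ _ (hw ξ)
  let σ' : M.presheaf.obj (Opposite.op ⊤) := φ.hom.app ⊤ σ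
  have hgerm : ∀ x : S, Groth.L22.C1.mk M (M.presheaf.germ ⊤ x trivial σ') =
      Groth.L22.C1.mapSec φ.hom x (Groth.L22.C1.mk L (L.presheaf.germ ⊤ x trivial σ)) := fun x => by
    rw [Groth.L22.C1.mapSec_mk, Groth.L22.C1.stMap_germ]
  have h0 : ∀ x (s : Cyc.secFibre L x), Groth.L22.C1.mapSec φ.hom x s = 0 ↔ s = 0 := fun x s =>
    ⟨fun h => by_contra fun hs => Groth.L22.C1.mapSec_ne_zero φ.hom hL hM x s hs h, fun h => by rw [h, map_zero]⟩
  have hσ' : Cyc.IsZeroSchemeOf i M σ' := by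
    refine ⟨hσ.1.trans (Set.ext fun x => ?_), fun d => ?_⟩
    · show Groth.L22.C1.mk L (L.presheaf.germ ⊤ x trivial σ) = 0 ↔
        Groth.L22.C1.mk M (M.presheaf.germ ⊤ x trivial σ') = 0
      rw [hgerm, h0]
    · obtain ⟨t, f, ht, hf, hk⟩ := hσ.2 d
      refine ⟨Groth.L22.C1.stMap φ.hom (i d) t, f, Groth.L22.C1.IsGen.map φ.hom ht, ?_, hk⟩
      rw [← map_smul, ← hf, Groth.L22.C1.stMap_germ]
  have hch : ∀ ξ, Cyc.gysinChoice M σ' w' ξ = Groth.L22.C1.mapSec φ.hom ξ (Cyc.gysinChoice L σ w ξ) := fun ξ => by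
    unfold Cyc.gysinChoice
    by_cases h : Groth.L22.C1.mk L (L.presheaf.germ ⊤ ξ trivial σ) = 0
    · rw [if_neg fun h' => h' ((hgerm ξ).trans ((h0 ξ _).2 h)), if_neg fun h' => h' h]
    · rw [if_pos fun h' => h ((h0 ξ _).1 ((hgerm ξ).symm.trans h')), if_pos h]
      exact hgerm ξ
  obtain ⟨γ, hγ⟩ := exists_gysin i hS hL (σ := σ) α w hw
  obtain ⟨γ', hγ'⟩ := exists_gysin i hS hM (σ := τ) α w' hw'
  rw [gysinOp_cl i hS hi hL hσ α hα w hw γ hγ (gysin_mem hi hα hγ),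
    gysinOp_cl i hS hi hM hτ α hα w' hw' γ' hγ' (gysin_mem hi hα hγ')]
  have hγ₁ : ∀ d, γ d = Cyc.c1CapFun δS M ⇑α (Cyc.gysinChoice M σ' w') (i d) := fun d => by
    rw [hγ]
    exact finsum_congr fun ξ => by rw [hch, Groth.L22.C1.secDivFun_mapSec φ.hom hL hM hS.2.2]
  refine cl_eq_of_rat _ _ ?_
  subst hi
  refine (Groth.L22.C1.ratOn_change' hS.2.2 hM (k - 1) α (by rwa [sub_add_cancel]) (Set.range i) _ _
    (gysinChoice_ne_zero σ' w' hw') (gysinChoice_ne_zero τ w' hw') fun ξ hξ x =>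
      Groth.L22.C1.secDivFun_same_zeroScheme hS.2.2 i hM σ' τ hσ' hτ w' w' hξ x).comap i hS.2.2 subset_rfl _
    fun d => ?_
  rw [Function.locallyFinsuppWithin.coe_sub, Pi.sub_apply, hγ₁, hγ']

/-- Transport of a Gysin map along an isomorphism. -/
theorem pushOp_iso_gysin (i : D ⟶ S) [IsClosedImmersion i] (j : E ⟶ S) [IsClosedImmersion j] (θ : E ⟶ D) [IsIso θ]
    (hθj : θ ≫ i = j) (hS : Cyc.IsSetup S δS) (hi : δD = fun d => δS (i d)) (hj : δE = fun d => δS (j d))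
    (hE : Cyc.IsSetup E δE) (hD : Cyc.IsSetup D δD) (hθ : Cyc.DeltaCompat θ δE δD)
    {L : S.Modules} (hL : PicF.IsInvertible L) {σ : L.presheaf.obj (Opposite.op ⊤)}
    (hσ : Cyc.IsZeroSchemeOf i L σ) (hσ' : Cyc.IsZeroSchemeOf j L σ) (z : ChowOps.CH S δS k) :
    pushOp θ hE hD hθ (k - 1) (gysinOp j hS hj hL hσ' k z) = gysinOp i hS hi hL hσ k z := by
  obtain ⟨α, hα, rfl⟩ := Bivar.exists_rep z
  obtain ⟨w, hw⟩ := exists_sec hL
  obtain ⟨γ, hγ⟩ := exists_gysin j hS hL (σ := σ) α w hw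
  obtain ⟨γ', hγ'⟩ := exists_gysin i hS hL (σ := σ) α w hw
  rw [gysinOp_cl j hS hj hL hσ' α hα w hw γ hγ (gysin_mem hj hα hγ), pushOp_cl,
    gysinOp_cl i hS hi hL hσ α hα w hw γ' hγ' (gysin_mem hi hα hγ')]
  refine Bivar.cl_congr (DFunLike.coe_injective (funext fun d => ?_)) _ _
  rw [← iso_apply_inv θ d, map_iso_apply θ (delta_closedImmersion θ hθ), hγ, hγ', ← hθj, Scheme.Hom.comp_apply]

end Indep

section Pull

variable {X Y X' Y' Z : Scheme.{u}} {δX : X → ℤ} {δY : Y → ℤ} {δX' : X' → ℤ} {δY' : Y' → ℤ} {k : ℤ}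

/-- Flat pullback commutes with proper push-forward. -/
theorem pullOp_pushOp_bc (f : X ⟶ Y) [IsProper f] (g : Y' ⟶ Y) [Flat g] [LocallyOfFiniteType g]
    (f' : X' ⟶ Y') [IsProper f'] (g' : X' ⟶ X) [Flat g'] [LocallyOfFiniteType g'] (sq : IsPullback g' f' f g)
    {r : ℕ} (hr : Cyc.HasRelDim g r) (hr' : Cyc.HasRelDim g' r) (hX : Cyc.IsSetup X δX) (hY : Cyc.IsSetup Y δY)
    (hX' : Cyc.IsSetup X' δX') (hY' : Cyc.IsSetup Y' δY') (hf : Cyc.DeltaCompat f δX δY)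
    (hg : Cyc.DeltaCompat g δY' δY) (hf' : Cyc.DeltaCompat f' δX' δY') (hg' : Cyc.DeltaCompat g' δX' δX)
    (z : ChowOps.CH X δX k) :
    pullOp g hr hY' hY hg k (pushOp f hX hY hf k z) = pushOp f' hX' hY' hf' (k + r) (pullOp g' hr' hX' hX hg' k z) := by
  haveI := hX'.1
  haveI := hY'.1
  obtain ⟨α, hα, rfl⟩ := Bivar.exists_rep z
  let P := pullback f g
  let θ : X' ⟶ P := sq.isoPullback.hom
  have hθ1 : θ ≫ pullback.fst f g = g' := sq.isoPullback_hom_fst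
  have hθ2 : θ ≫ pullback.snd f g = f' := sq.isoPullback_hom_snd
  obtain ⟨δP, hP, hcP⟩ := Groth.L22.Cyc.exists_setup (pullback.fst f g) hX
  haveI := hP.1
  have hθ : Cyc.DeltaCompat θ δX' δP :=
    Groth.L22.Bundle.deltaCompat_cancel θ (pullback.fst f g) (hθ1.symm ▸ hg') hcP
  have hsnd : Cyc.DeltaCompat (pullback.snd f g) δP δY' := by
    refine Groth.L22.Bundle.deltaCompat_cancel (pullback.snd f g) g ?_ hg
    rw [← pullback.condition]
    exact Bivar.deltaCompat_comp _ f δP δX δY hcP hf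
  have hrP : Cyc.HasRelDim (pullback.fst f g) r :=
    Groth.L22.Cyc.hasRelDim_baseChange (IsPullback.of_hasPullback f g).flip hr
  obtain ⟨γ, hγ⟩ := exists_pullCycle g' hr' hX' hg' α
  obtain ⟨δ₁, hδ₁⟩ := exists_pullCycle g hr hY' hg (AlgebraicCycle.map f δX δY α)
  have hm := Bivar.cycMap_mem_Zk f δX δY k hα
  have hγm := Bivar.pullFun_mem_Zk g' δX' δX r k hα γ hγ
  rw [pushOp_cl, pullOp_cl g hr hY' hY hg _ hm δ₁ hδ₁ (Bivar.pullFun_mem_Zk g δY' δY r k hm δ₁ hδ₁),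
    pullOp_cl g' hr' hX' hX hg' α hα γ hγ hγm, pushOp_cl]
  refine Bivar.cl_congr (DFunLike.coe_injective ?_) _ _
  have hθα : ⇑(AlgebraicCycle.map θ δX' δP γ) = Cyc.pullFun (pullback.fst f g) δP δX (r : ℤ) ⇑α := by
    funext d
    rw [← iso_apply_inv θ d, map_iso_apply θ (delta_closedImmersion θ hθ), hγ,
      Groth.L22.Cyc.pullFun_eq' g' (shift g' hr' hg'), Groth.L22.Cyc.pullFun_eq' _ (shift _ hrP hcP)]
    dsimp only
    rw [← Groth.L22.Cyc.mult_congr _ hθ1, Groth.L22.Cyc.mult_comp, Groth.L22.Bundle.mult_openImmersion θ, mul_one]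
    exact congrArg (fun t : X => α t * _) (congrArg (fun φ : X' ⟶ X => φ ((inv θ) d)) hθ1.symm)
  have key := Groth.L22.Cyc.map_pullFun_eq (f := f) (p := g) (δ := δY) (δ' := δY') (δY := δX) (δY' := δP) hY'.2.2
    hf hsnd (c := (r : ℤ)) (shift g hr hg) (shift _ hrP hcP) α _ hθα
  rw [hδ₁, key]
  exact congrArg DFunLike.coe ((Groth.Agent.S1859.result X' P Y' δX' δP δY' hX' hP hY' θ (pullback.snd f g) hθ
    hsnd (k + r) γ hγm).trans (map_congr hθ2 γ))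

/-- Flat pullbacks commute. -/
theorem pullOp_pullOp_comm {δZ : Z → ℤ} (f : X' ⟶ X) (g : X ⟶ Z) (f' : X' ⟶ Y) (g' : Y ⟶ Z)
    [Flat f] [LocallyOfFiniteType f] [Flat g] [LocallyOfFiniteType g] [Flat f'] [LocallyOfFiniteType f']
    [Flat g'] [LocallyOfFiniteType g'] (w : f ≫ g = f' ≫ g') {a b a' b' : ℕ}
    (ha : Cyc.HasRelDim f a) (hb : Cyc.HasRelDim g b) (ha' : Cyc.HasRelDim f' a') (hb' : Cyc.HasRelDim g' b')
    (hX' : Cyc.IsSetup X' δX') (hX : Cyc.IsSetup X δX) (hY : Cyc.IsSetup Y δY) (hZ : Cyc.IsSetup Z δZ)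
    (hf : Cyc.DeltaCompat f δX' δX) (hg : Cyc.DeltaCompat g δX δZ) (hf' : Cyc.DeltaCompat f' δX' δY)
    (hg' : Cyc.DeltaCompat g' δY δZ) (e : k + (b : ℤ) + a = k + b' + a') (z : ChowOps.CH Z δZ k) :
    Bivar.chCast X' δX' e (pullOp f ha hX' hX hf (k + b) (pullOp g hb hX hZ hg k z)) =
      pullOp f' ha' hX' hY hf' (k + b') (pullOp g' hb' hY hZ hg' k z) := by
  haveI := hX'.1
  haveI := hX.1
  haveI := hY.1
  obtain ⟨α, hα, rfl⟩ := Bivar.exists_rep z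
  obtain ⟨γ, hγ⟩ := exists_pullCycle g hb hX hg α
  obtain ⟨γ', hγ'⟩ := exists_pullCycle g' hb' hY hg' α
  have hm := Bivar.pullFun_mem_Zk g δX δZ b k hα γ hγ
  have hm' := Bivar.pullFun_mem_Zk g' δY δZ b' k hα γ' hγ'
  obtain ⟨ζ, hζ⟩ := exists_pullCycle f ha hX' hf γ
  obtain ⟨ζ', hζ'⟩ := exists_pullCycle f' ha' hX' hf' γ'
  rw [pullOp_cl g hb hX hZ hg α hα γ hγ hm, pullOp_cl g' hb' hY hZ hg' α hα γ' hγ' hm',
    pullOp_cl f ha hX' hX hf γ hm ζ hζ (Bivar.pullFun_mem_Zk f δX' δX a _ hm ζ hζ),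
    pullOp_cl f' ha' hX' hY hf' γ' hm' ζ' hζ' (Bivar.pullFun_mem_Zk f' δX' δY a' _ hm' ζ' hζ'), Bivar.chCast_cl]
  refine Bivar.cl_congr (DFunLike.coe_injective (funext fun x => ?_)) _ _
  rw [hζ, hζ', Groth.L22.Cyc.pullFun_eq' f (shift f ha hf), Groth.L22.Cyc.pullFun_eq' f' (shift f' ha' hf'),
    hγ, hγ', Groth.L22.Cyc.pullFun_eq' g (shift g hb hg), Groth.L22.Cyc.pullFun_eq' g' (shift g' hb' hg')]
  dsimp only
  have h1 := congrArg ENat.toNat (Groth.L22.Cyc.mult_congr _ w x)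
  rw [Groth.L22.Cyc.mult_comp, Groth.L22.Cyc.mult_comp, ENat.toNat_mul, ENat.toNat_mul] at h1
  rw [mul_assoc, mul_assoc, ← Nat.cast_mul, ← Nat.cast_mul, h1]
  rw [← Scheme.Hom.comp_apply, w, Scheme.Hom.comp_apply]

end Pull

section Gysin

variable {S T D E : Scheme.{u}} {δS : S → ℤ} {δT : T → ℤ} {δD : D → ℤ} {δE : E → ℤ} {k : ℤ}

/-- Gysin maps commute with proper push-forward. -/
theorem gysinOp_pushOp_bc (g : T ⟶ S) [IsProper g] (i : D ⟶ S) [IsClosedImmersion i] (j : E ⟶ T)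
    [IsClosedImmersion j] (g' : E ⟶ D) [IsProper g'] (sq : IsPullback j g' g i)
    (hS : Cyc.IsSetup S δS) (hT : Cyc.IsSetup T δT) (hD : Cyc.IsSetup D δD) (hE : Cyc.IsSetup E δE)
    (hg : Cyc.DeltaCompat g δT δS) (hg' : Cyc.DeltaCompat g' δE δD)
    (hi : δD = fun d => δS (i d)) (hj : δE = fun d => δT (j d))
    {L : S.Modules} (hL : PicF.IsInvertible L) {σ : L.presheaf.obj (Opposite.op ⊤)}
    (hσ : Cyc.IsZeroSchemeOf i L σ) {N : T.Modules} (hN : PicF.IsInvertible N)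
    {τ : N.presheaf.obj (Opposite.op ⊤)} (hτ : Cyc.IsZeroSchemeOf j N τ)
    (e : (Scheme.Modules.pullback g).obj L ≅ N) (z : ChowOps.CH T δT k) :
    gysinOp i hS hi hL hσ k (pushOp g hT hS hg k z) = pushOp g' hE hD hg' (k - 1) (gysinOp j hT hj hN hτ k z) := by
  haveI := hS.1
  haveI := hT.1
  let θ : E ⟶ pullback g i := sq.isoPullback.hom
  have hθ1 : θ ≫ pullback.fst g i = j := sq.isoPullback_hom_fst
  have hθ2 : θ ≫ pullback.snd g i = g' := sq.isoPullback_hom_snd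
  have hgL := Groth.L18.Ample.isInvertible_pullback g hL
  have hs := Groth.L22.C1.isZeroScheme_base g i hL σ hσ
  have hs' := Groth.L22.P1Zero.isZeroSchemeOf_iso j (pullback.fst g i) θ hθ1 hs
  have hP := Groth.L22.C1.isSetup_closedImmersion (pullback.fst g i) hT
  have hcP : Cyc.DeltaCompat (pullback.fst g i) (fun d => δT (pullback.fst g i d)) δT :=
    Groth.L22.C1.deltaCompat_closedImmersion _ δT
  have hθ : Cyc.DeltaCompat θ δE (fun d => δT (pullback.fst g i d)) := by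
    refine Groth.L22.Bundle.deltaCompat_cancel θ (pullback.fst g i) ?_ hcP
    rw [hθ1, hj]
    exact Groth.L22.C1.deltaCompat_closedImmersion j δT
  have hsnd : Cyc.DeltaCompat (pullback.snd g i) (fun d => δT (pullback.fst g i d)) δD := by
    rw [hi]
    exact Groth.L22.Cyc.deltaCompat_square g (pullback.fst g i) i (pullback.snd g i) hg pullback.condition.symm
  rw [← gysinOp_indep j hT hj e hgL hN hs' hτ z,
    ← pushOp_comp θ (pullback.snd g i) g' hθ2 hE hP hD hθ hsnd hg',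
    pushOp_iso_gysin (pullback.fst g i) j θ hθ1 hT rfl hj hE hP hθ hgL hs hs' z]
  obtain ⟨α, hα, rfl⟩ := Bivar.exists_rep z
  obtain ⟨w, hw⟩ := exists_sec hL
  obtain ⟨w', hw'⟩ := exists_sec hgL
  have hm := Bivar.cycMap_mem_Zk g δT δS k hα
  obtain ⟨γ, hγ⟩ := exists_gysin i hS hL (σ := σ) (AlgebraicCycle.map g δT δS α) w hw
  obtain ⟨γ', hγ'⟩ := exists_gysin (pullback.fst g i) hT hgL (σ := pull g L ⊤ σ) α w' hw'
  rw [pushOp_cl, gysinOp_cl i hS hi hL hσ _ hm w hw γ hγ (gysin_mem hi hm hγ),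
    gysinOp_cl (pullback.fst g i) hT rfl hgL hs α hα w' hw' γ' hγ' (gysin_mem rfl hα hγ'), pushOp_cl]
  refine cl_eq_of_rat _ _ ?_
  subst hi
  exact Groth.L22.C1.gysin_map g i hL σ hσ hS.2.2 hT.2.2 hg (pull g L ⊤ σ) hs (k - 1) α
    (by rwa [sub_add_cancel]) w hw w' hw' γ hγ γ' hγ'

/-- Gysin maps commute with flat pullback. -/
theorem gysinOp_pullOp_bc (g : T ⟶ S) [Flat g] [LocallyOfFiniteType g] (i : D ⟶ S) [IsClosedImmersion i]
    (j : E ⟶ T) [IsClosedImmersion j] (g' : E ⟶ D) [Flat g'] [LocallyOfFiniteType g'] (sq : IsPullback j g' g i)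
    {r : ℕ} (hr : Cyc.HasRelDim g r) (hr' : Cyc.HasRelDim g' r)
    (hS : Cyc.IsSetup S δS) (hT : Cyc.IsSetup T δT) (hD : Cyc.IsSetup D δD) (hE : Cyc.IsSetup E δE)
    (hg : Cyc.DeltaCompat g δT δS) (hg' : Cyc.DeltaCompat g' δE δD)
    (hi : δD = fun d => δS (i d)) (hj : δE = fun d => δT (j d))
    {L : S.Modules} (hL : PicF.IsInvertible L) {σ : L.presheaf.obj (Opposite.op ⊤)}
    (hσ : Cyc.IsZeroSchemeOf i L σ) {N : T.Modules} (hN : PicF.IsInvertible N)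
    {τ : N.presheaf.obj (Opposite.op ⊤)} (hτ : Cyc.IsZeroSchemeOf j N τ)
    (e : (Scheme.Modules.pullback g).obj L ≅ N) (e' : k + (r : ℤ) - 1 = k - 1 + r) (z : ChowOps.CH S δS k) :
    Bivar.chCast E δE e' (gysinOp j hT hj hN hτ (k + r) (pullOp g hr hT hS hg k z)) =
      pullOp g' hr' hE hD hg' (k - 1) (gysinOp i hS hi hL hσ k z) := by
  haveI := hS.1
  haveI := hT.1
  haveI := hE.1
  let θ : E ⟶ pullback g i := sq.isoPullback.hom
  have hθ1 : θ ≫ pullback.fst g i = j := sq.isoPullback_hom_fst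
  have hθ2 : θ ≫ pullback.snd g i = g' := sq.isoPullback_hom_snd
  have hgL := Groth.L18.Ample.isInvertible_pullback g hL
  have hs := Groth.L22.C1.isZeroScheme_base g i hL σ hσ
  have hs' := Groth.L22.P1Zero.isZeroSchemeOf_iso j (pullback.fst g i) θ hθ1 hs
  have hP := Groth.L22.C1.isSetup_closedImmersion (pullback.fst g i) hT
  haveI := hP.1
  have hcP : Cyc.DeltaCompat (pullback.fst g i) (fun d => δT (pullback.fst g i d)) δT :=
    Groth.L22.C1.deltaCompat_closedImmersion _ δT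
  have hθ : Cyc.DeltaCompat θ δE (fun d => δT (pullback.fst g i d)) := by
    refine Groth.L22.Bundle.deltaCompat_cancel θ (pullback.fst g i) ?_ hcP
    rw [hθ1, hj]
    exact Groth.L22.C1.deltaCompat_closedImmersion j δT
  have hsnd : Cyc.DeltaCompat (pullback.snd g i) (fun d => δT (pullback.fst g i d)) δD := by
    rw [hi]
    exact Groth.L22.Cyc.deltaCompat_square g (pullback.fst g i) i (pullback.snd g i) hg pullback.condition.symm
  have hrP : Cyc.HasRelDim (pullback.snd g i) r :=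
    Groth.L22.Cyc.hasRelDim_baseChange (IsPullback.of_hasPullback g i) hr
  refine pushOp_iso_injective θ hE hP hθ ?_
  obtain ⟨α, hα, rfl⟩ := Bivar.exists_rep z
  obtain ⟨α₁, hα₁⟩ := exists_pullCycle g hr hT hg α
  obtain ⟨w, hw⟩ := exists_sec hL
  obtain ⟨w', hw'⟩ := exists_sec hgL
  have hm₁ := Bivar.pullFun_mem_Zk g δT δS r k hα α₁ hα₁
  obtain ⟨γ, hγ⟩ := exists_gysin i hS hL (σ := σ) α w hw
  have hγm := gysin_mem hi hα hγ
  obtain ⟨ζ, hζ⟩ := exists_pullCycle g' hr' hE hg' γ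
  have hζm := Bivar.pullFun_mem_Zk g' δE δD r (k - 1) hγm ζ hζ
  obtain ⟨ζ₁, hζ₁⟩ := exists_gysin (pullback.fst g i) hT hgL (σ := pull g L ⊤ σ) α₁ w' hw'
  obtain ⟨ζ₀, hζ₀⟩ := exists_gysin j hT hgL (σ := pull g L ⊤ σ) α₁ w' hw'
  rw [pullOp_cl g hr hT hS hg α hα α₁ hα₁ hm₁, gysinOp_cl i hS hi hL hσ α hα w hw γ hγ hγm,
    pullOp_cl g' hr' hE hD hg' γ hγm ζ hζ hζm, ← gysinOp_indep j hT hj e hgL hN hs' hτ,
    gysinOp_cl j hT hj hgL hs' α₁ hm₁ w' hw' ζ₀ hζ₀ (gysin_mem hj hm₁ hζ₀), Bivar.chCast_cl, pushOp_cl, pushOp_cl]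
  refine cl_eq_of_rat _ _ ?_
  have hθe := delta_closedImmersion θ hθ
  have h1 : AlgebraicCycle.map θ δE (fun d => δT (pullback.fst g i d)) ζ₀ = ζ₁ :=
    DFunLike.coe_injective (funext fun d => by
      rw [← iso_apply_inv θ d, map_iso_apply θ hθe, hζ₀, hζ₁]
      exact congrArg _ (congrArg (fun φ : E ⟶ T => φ ((inv θ) d)) hθ1.symm))
  have h2 : ⇑(AlgebraicCycle.map θ δE (fun d => δT (pullback.fst g i d)) ζ) =
      Cyc.pullFun (pullback.snd g i) (fun d => δT (pullback.fst g i d)) δD (r : ℤ) ⇑γ := by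
    funext d
    rw [← iso_apply_inv θ d, map_iso_apply θ hθe, hζ,
      Groth.L22.Cyc.pullFun_eq' g' (shift g' hr' hg'), Groth.L22.Cyc.pullFun_eq' _ (shift _ hrP hsnd)]
    dsimp only
    rw [← Groth.L22.Cyc.mult_congr _ hθ2, Groth.L22.Cyc.mult_comp, Groth.L22.Bundle.mult_openImmersion θ, mul_one]
    exact congrArg (fun t : D => γ t * _) (congrArg (fun φ : E ⟶ D => φ ((inv θ) d)) hθ2.symm)
  rw [h1]
  subst hi
  exact Groth.L22.C1.gysin_pullFun g i hL σ hσ hS.2.2 hT.2.2 r hr hg (pull g L ⊤ σ) hs (k - 1) α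
    (by rwa [sub_add_cancel]) w hw w' hw' ζ₁ _ (fun d => by rw [hζ₁, hα₁]) (by rw [h2, funext hγ])

/-- Gysin maps commute with each other. -/
theorem gysinOp_gysinOp (i : D ⟶ S) [IsClosedImmersion i] (i' : T ⟶ S) [IsClosedImmersion i'] (j : E ⟶ D)
    [IsClosedImmersion j] (j' : E ⟶ T) [IsClosedImmersion j'] (sq : IsPullback j j' i i')
    (hS : Cyc.IsSetup S δS) (hT : Cyc.IsSetup T δT) (hD : Cyc.IsSetup D δD) (hE : Cyc.IsSetup E δE)
    (hi : δD = fun d => δS (i d)) (hi' : δT = fun d => δS (i' d))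
    (hj : δE = fun d => δD (j d)) (hj' : δE = fun d => δT (j' d))
    {L : S.Modules} (hL : PicF.IsInvertible L) {σ : L.presheaf.obj (Opposite.op ⊤)} (hσ : Cyc.IsZeroSchemeOf i L σ)
    {L' : S.Modules} (hL' : PicF.IsInvertible L') {σ' : L'.presheaf.obj (Opposite.op ⊤)}
    (hσ' : Cyc.IsZeroSchemeOf i' L' σ')
    {N : D.Modules} (hN : PicF.IsInvertible N) {τ : N.presheaf.obj (Opposite.op ⊤)}
    (hτ : Cyc.IsZeroSchemeOf j N τ) (e : (Scheme.Modules.pullback i).obj L' ≅ N)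
    {N' : T.Modules} (hN' : PicF.IsInvertible N') {τ' : N'.presheaf.obj (Opposite.op ⊤)}
    (hτ' : Cyc.IsZeroSchemeOf j' N' τ') (e' : (Scheme.Modules.pullback i').obj L ≅ N')
    (z : ChowOps.CH S δS k) :
    gysinOp j hD hj hN hτ (k - 1) (gysinOp i hS hi hL hσ k z) =
      gysinOp j' hT hj' hN' hτ' (k - 1) (gysinOp i' hS hi' hL' hσ' k z) := by
  haveI := hS.1
  haveI := hE.1
  subst hi
  subst hi'
  let θ : E ⟶ pullback i i' := sq.isoPullback.hom
  have hθ1 : θ ≫ pullback.fst i i' = j := sq.isoPullback_hom_fst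
  have hθ2 : θ ≫ pullback.snd i i' = j' := sq.isoPullback_hom_snd
  have hiL := Groth.L18.Ample.isInvertible_pullback i hL'
  have hiL' := Groth.L18.Ample.isInvertible_pullback i' hL
  have hs := Groth.L22.C1.isZeroScheme_base i i' hL' σ' hσ'
  have hsj := Groth.L22.P1Zero.isZeroSchemeOf_iso j (pullback.fst i i') θ hθ1 hs
  have hs2' := Groth.L22.C1.isZeroScheme_base i' i hL σ hσ
  have hs2 := Groth.L22.P1Zero.isZeroSchemeOf_iso (pullback.snd i i') (pullback.fst i' i)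
    (pullbackSymmetry i i').hom (pullbackSymmetry_hom_comp_fst i i') hs2'
  have hsj2 := Groth.L22.P1Zero.isZeroSchemeOf_iso j' (pullback.snd i i') θ hθ2 hs2
  have hP := Groth.L22.C1.isSetup_closedImmersion (pullback.fst i i') hD
  have hcP : Cyc.DeltaCompat (pullback.fst i i') (fun d => δS (i (pullback.fst i i' d))) (fun d => δS (i d)) :=
    Groth.L22.C1.deltaCompat_closedImmersion (pullback.fst i i') fun d => δS (i d)
  have hθ : Cyc.DeltaCompat θ δE (fun d => δS (i (pullback.fst i i' d))) := by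
    refine Groth.L22.Bundle.deltaCompat_cancel θ (pullback.fst i i') ?_ hcP
    rw [hθ1, hj]
    exact Groth.L22.C1.deltaCompat_closedImmersion j fun d => δS (i d)
  have hsnd : (fun d => δS (i (pullback.fst i i' d))) = fun d => δS (i' (pullback.snd i i' d)) := funext fun d => by
    rw [← Scheme.Hom.comp_apply, pullback.condition, Scheme.Hom.comp_apply]
  rw [← gysinOp_indep j hD hj e hiL hN hsj hτ, ← gysinOp_indep j' hT hj' e' hiL' hN' hsj2 hτ']
  refine pushOp_iso_injective θ hE hP hθ ?_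
  rw [pushOp_iso_gysin (pullback.fst i i') j θ hθ1 hD rfl hj hE hP hθ hiL hs hsj,
    pushOp_iso_gysin (pullback.snd i i') j' θ hθ2 hT hsnd hj' hE hP hθ hiL' hs2 hsj2]
  obtain ⟨α, hα, rfl⟩ := Bivar.exists_rep z
  obtain ⟨w, hw⟩ := exists_sec hL
  obtain ⟨w', hw'⟩ := exists_sec hL'
  obtain ⟨w₁, hw₁⟩ := exists_sec hiL
  obtain ⟨w₂, hw₂⟩ := exists_sec hiL'
  obtain ⟨γ, hγ⟩ := exists_gysin i hS hL (σ := σ) α w hw
  obtain ⟨γ', hγ'⟩ := exists_gysin i' hS hL' (σ := σ') α w' hw'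
  have hγm := gysin_mem (δD := fun d => δS (i d)) rfl hα hγ
  have hγm' := gysin_mem (δD := fun d => δS (i' d)) rfl hα hγ'
  obtain ⟨ζ₁, hζ₁⟩ := exists_gysin (pullback.fst i i') hD hiL (σ := pull i L' ⊤ σ') γ w₁ hw₁
  obtain ⟨ζ₂, hζ₂⟩ := exists_gysin (pullback.snd i i') hT hiL' (σ := pull i' L ⊤ σ) γ' w₂ hw₂
  rw [gysinOp_cl i hS rfl hL hσ α hα w hw γ hγ hγm, gysinOp_cl i' hS rfl hL' hσ' α hα w' hw' γ' hγ' hγm',
    gysinOp_cl (pullback.fst i i') hD rfl hiL hs γ hγm w₁ hw₁ ζ₁ hζ₁ (gysin_mem rfl hγm hζ₁),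
    gysinOp_cl (pullback.snd i i') hT hsnd hiL' hs2 γ' hγm' w₂ hw₂ ζ₂ hζ₂ (gysin_mem hsnd hγm' hζ₂)]
  refine cl_eq_of_rat _ _ ?_
  rw [show k - 1 - 1 = k - 2 by ring]
  exact Groth.L22.C1.gysin_comm (δ := δS) i i' hS.2.2 hL hL' σ σ' hσ hσ' _ hs _ hs2 k α hα w hw w' hw' w₁ hw₁ w₂ hw₂
    ζ₁ ζ₂ (fun d => by rw [hζ₁, funext hγ]) (fun d => by rw [hζ₂, funext hγ'])

end Gysin

end Groth.L16.BivarOps
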