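import Groth.Prelude.Def_Bivar2
import Groth.Agent.L22.Cyc.Envelope
import Groth.Agent.L22.Cyc.Setup
import Groth.Agent.L22.Cyc.PushRat
import Groth.Agent.L22.Bundle.Immersion
import Groth.Agent.S6484

/-!
# Bivariant classes are determined on envelopes
-/

set_option autoImplicit false
set_option linter.style.haveILetI false
set_option backward.isDefEq.respectTransparency false

universe u

open CategoryTheory CategoryTheory.Limits AlgebraicGeometry

namespace Groth.L16.BivarEnv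

/-- The induced dimension function is unique. -/
theorem deltaCompat_unique {X Y : Scheme.{u}} (f : X ⟶ Y) {δ δ' : X → ℤ} {δY : Y → ℤ}
    (h : Cyc.DeltaCompat f δ δY) (h' : Cyc.DeltaCompat f δ' δY) : δ = δ' := by
  funext x
  obtain ⟨n, hn, e⟩ := h x
  obtain ⟨m, hm, e'⟩ := h' x
  have : (n : Cardinal.{u}) = m := hn.symm.trans hm
  rw [e, e', Nat.cast_inj.1 this]

/-- Proper push-forward respects equality of classes. -/
theorem cl_map_eq {X Y : Scheme.{u}} (p : X ⟶ Y) [IsProper p] {δX : X → ℤ} {δY : Y → ℤ}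
    (hX : Cyc.IsSetup X δX) (hY : Cyc.IsSetup Y δY) (hδ : Cyc.DeltaCompat p δX δY) {k : ℤ}
    {a b : AlgebraicCycle X ℤ} (ha : a ∈ Cyc.Zk X δX k) (hb : b ∈ Cyc.Zk X δX k)
    (he : ChowOps.cl a ha = ChowOps.cl b hb) :
    ChowOps.cl (AlgebraicCycle.map p δX δY a) (Bivar.cycMap_mem_Zk p δX δY k ha) =
      ChowOps.cl (AlgebraicCycle.map p δX δY b) (Bivar.cycMap_mem_Zk p δX δY k hb) := by
  haveI := hX.1
  haveI := hY.1
  let φ : ↥(ChowOps.zk X δX k) →+ ↥(ChowOps.zk Y δY k) :=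
    { toFun := fun c => ⟨AlgebraicCycle.map p δX δY c.1, Bivar.cycMap_mem_Zk p δX δY k c.2⟩
      map_zero' := Subtype.ext (Bivar.cycMap_zero p δX δY)
      map_add' := fun c d => Subtype.ext (Bivar.cycMap_add p δX δY c.1 d.1) }
  have hφ : ChowOps.ratTriv X δX k ≤ (ChowOps.ratTriv Y δY k).comap φ := by
    refine (AddSubgroup.closure_le _).2 fun c hc => AddSubgroup.subset_closure ?_
    show Cyc.RatEquivZero δY k (AlgebraicCycle.map p δX δY c.1)
    have h := Groth.L22.Cyc.ratEquiv_map p hX.2.2 hY.2.2 hδ k c.1 0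
      (by simpa [Cyc.RatEquiv] using hc)
    simpa [Cyc.RatEquiv, Bivar.cycMap_zero] using h
  exact congrArg (QuotientAddGroup.map _ _ φ hφ) he

theorem eq_of_res_eq {X Y : Scheme.{u}} {δX : X → ℤ} {δY : Y → ℤ} (hX : Cyc.IsSetup X δX)
    (hY : Cyc.IsSetup Y δY) {f : X ⟶ Y} [LocallyOfFiniteType f] {p : ℤ}
    (s₀ : Bivar.Sq f δX δY) [IsProper s₀.g] (hcd : Cyc.IsCompletelyDecomposed s₀.g)
    (c₁ c₂ : Bivar.Cl p f δX δY) (heq : c₁.res s₀ = c₂.res s₀) : c₁ = c₂ := by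
  refine Bivar.Cl.ext (funext fun s => funext fun k => AddMonoidHom.ext fun z => ?_)
  haveI := s.lft
  haveI := s₀.lft
  obtain ⟨α, hα, rfl⟩ := Bivar.exists_rep z
  -- the test scheme over the envelope
  let T := pullback s₀.g s.g
  let h : T ⟶ s.Y' := pullback.snd s₀.g s.g
  let T' := pullback s.f' h
  let h' : T' ⟶ s.X' := pullback.fst s.f' h
  have sqT : IsPullback (pullback.snd s.f' h) (h' ≫ s.g') (h ≫ s.g) f :=
    (IsPullback.of_hasPullback s.f' h).flip.paste_vert s.isPullback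
  let a : T' ⟶ s₀.X' := s₀.isPullback.lift (pullback.snd s.f' h ≫ pullback.fst s₀.g s.g) (h' ≫ s.g')
    (by rw [Category.assoc, pullback.condition, ← sqT.w])
  have ha1 : a ≫ s₀.f' = pullback.snd s.f' h ≫ pullback.fst s₀.g s.g := s₀.isPullback.lift_fst _ _ _
  have ha2 : a ≫ s₀.g' = h' ≫ s.g' := s₀.isPullback.lift_snd _ _ _
  have sq0 : IsPullback (pullback.snd s.f' h) a (pullback.fst s₀.g s.g) s₀.f' := by
    refine IsPullback.of_bot ?_ ha1.symm s₀.isPullback
    rw [ha2]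
    exact (pullback.condition (f := s₀.g) (g := s.g)).symm ▸ sqT
  have hsY : Cyc.IsSetup s.Y' s.δY' := by
    obtain ⟨δ', h', hc⟩ := Groth.L22.Cyc.exists_setup s.g hY
    exact deltaCompat_unique s.g hc s.compatY ▸ h'
  haveI : LocallyOfFiniteType s.g' := MorphismProperty.of_isPullback s.isPullback inferInstance
  have hsX : Cyc.IsSetup s.X' s.δX' := by
    obtain ⟨δ', h', hc⟩ := Groth.L22.Cyc.exists_setup s.g' hX
    exact deltaCompat_unique s.g' hc s.compatX ▸ h'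
  obtain ⟨δT, hT, hcT⟩ := Groth.L22.Cyc.exists_setup h hsY
  obtain ⟨δT', hT', hcT'⟩ := Groth.L22.Cyc.exists_setup h' hsX
  have hcY := Bivar.deltaCompat_comp h s.g δT s.δY' δY hcT s.compatY
  have hcX := Bivar.deltaCompat_comp h' s.g' δT' s.δX' δX hcT' s.compatX
  let t₀ : Bivar.Sq s₀.f' s₀.δX' s₀.δY' :=
    { Y' := T, X' := T', g := pullback.fst s₀.g s.g, f' := pullback.snd s.f' h, g' := a
      isPullback := sq0
      lft := inferInstance
      δY' := δT, δX' := δT'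
      compatY := Groth.L22.Bundle.deltaCompat_cancel _ s₀.g
        ((pullback.condition (f := s₀.g) (g := s.g)).symm ▸ hcY) s₀.compatY
      compatX := Groth.L22.Bundle.deltaCompat_cancel a s₀.g' (ha2.symm ▸ hcX) s₀.compatX }
  let t := s₀.paste t₀
  have hop : c₁.op t k = c₂.op t k := congrArg (fun c : Bivar.Cl p s₀.f' s₀.δX' s₀.δY' => c.op t₀ k) heq
  haveI := hsY.1
  obtain ⟨α', hα', rfl⟩ := Groth.L22.Cyc.map_surjective_of_completelyDecomposed h
    (Groth.Agent.S6484.result Y s.Y' s₀.Y' s₀.g s.g hcd) hcT k α hα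
  have w₁ : h ≫ s.g = t.g := (pullback.condition (f := s₀.g) (g := s.g)).symm
  have w₂ : h' ≫ s.f' = t.f' ≫ h := pullback.condition
  obtain ⟨β₁, hβ₁, e₁, f₁⟩ := c₁.push s t h h' w₁ w₂ ha2.symm k α' hα'
  obtain ⟨β₂, hβ₂, e₂, f₂⟩ := c₂.push s t h h' w₁ w₂ ha2.symm k α' hα'
  rw [show ChowOps.cl (AlgebraicCycle.map h δT s.δY' α') hα =
    ChowOps.cl (AlgebraicCycle.map h δT s.δY' α') (Bivar.cycMap_mem_Zk h δT s.δY' k hα') from rfl]
  exact f₁.trans ((cl_map_eq h' hT' hsX hcT' hβ₁ hβ₂ (e₁.symm.trans (hop ▸ e₂))).trans f₂.symm)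

end Groth.L16.BivarEnv
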