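import Groth.Agent.L16.Bivar.Squares

/-!
# Flat pullback as a bivariant class
-/

set_option autoImplicit false
set_option linter.style.haveILetI false
set_option linter.unusedSectionVars false
set_option backward.isDefEq.respectTransparency false

universe u

open CategoryTheory CategoryTheory.Limits AlgebraicGeometry

noncomputable section

namespace Groth.L16.BivarFlat

open Groth.L16.BivarOps

variable {X Y : Scheme.{u}} {δX : X → ℤ} {δY : Y → ℤ} (f : X ⟶ Y) [Flat f] [LocallyOfFiniteType f] {r : ℕ}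
  (hr : Cyc.HasRelDim f r) (hX : Cyc.IsSetup X δX) (hY : Cyc.IsSetup Y δY) (hδ : Cyc.DeltaCompat f δX δY)

include f in
theorem flat_f' (s : Bivar.Sq f δX δY) : Flat s.f' :=
  MorphismProperty.of_isPullback s.isPullback.flip ‹Flat f›

include f in
theorem lft_f' (s : Bivar.Sq f δX δY) : LocallyOfFiniteType s.f' :=
  MorphismProperty.of_isPullback s.isPullback.flip ‹LocallyOfFiniteType f›

include hr in
theorem relDim_f' (s : Bivar.Sq f δX δY) : Cyc.HasRelDim s.f' r :=
  Groth.L22.Cyc.hasRelDim_baseChange s.isPullback.flip hr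

include hδ in
theorem compat_f' (s : Bivar.Sq f δX δY) : Cyc.DeltaCompat s.f' s.δX' s.δY' :=
  deltaCompat_side s.isPullback.w hδ s.compatY s.compatX

theorem chEq (k : ℤ) : k + (r : ℤ) = k - -(r : ℤ) := by ring

/-- Flat pullback on a square. -/
def op (s : Bivar.Sq f δX δY) (k : ℤ) : ChowOps.CH s.Y' s.δY' k →+ ChowOps.CH s.X' s.δX' (k - -(r : ℤ)) :=
  haveI := flat_f' f s
  haveI := lft_f' f s
  (Bivar.chCast s.X' s.δX' (chEq k)).toAddMonoidHom.comp
    (pullOp s.f' (relDim_f' f hr s) (setupX s hX) (setupY s hY) (compat_f' f hδ s) k)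

theorem op_apply (s : Bivar.Sq f δX δY) (k : ℤ) (z : ChowOps.CH s.Y' s.δY' k) :
    haveI := flat_f' f s
    haveI := lft_f' f s
    op f hr hX hY hδ s k z = Bivar.chCast s.X' s.δX' (chEq k)
      (pullOp s.f' (relDim_f' f hr s) (setupX s hX) (setupY s hY) (compat_f' f hδ s) k z) := rfl

/-- The class of flat pullback. -/
def cls : Bivar.Cl (-(r : ℤ)) f δX δY where
  op := op f hr hX hY hδ
  push s t h _ h' _ w₁ w₂ w₃ k := by
    haveI := flat_f' f s
    haveI := lft_f' f s
    haveI := flat_f' f t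
    haveI := lft_f' f t
    refine pushOK_of_apply (setupY t hY) (setupY s hY) (compat_h w₁) (setupX t hX) (setupX s hX) (compat_h' w₃)
      fun z => ?_
    rw [op_apply, op_apply, chCast_pushOp]
    exact congrArg _ (pullOp_pushOp_bc h s.f' h' t.f' (sq_of_morphism w₁ w₂ w₃) (relDim_f' f hr s) (relDim_f' f hr t)
      (setupY t hY) (setupY s hY) (setupX t hX) (setupX s hX) _ _ _ (compat_f' f hδ t) z)
  pull s t h _ h' _ r' hr₁ hr₂ w₁ w₂ w₃ k := by
    haveI := lft_h w₁
    haveI := lft_h' w₃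
    haveI := flat_f' f s
    haveI := lft_f' f s
    haveI := flat_f' f t
    haveI := lft_f' f t
    have e : k - -(r : ℤ) + (r' : ℤ) = k + r' - -(r : ℤ) := by ring
    refine pullOK_of_apply hr₁ hr₂ (setupY t hY) (setupY s hY) (compat_h w₁) (setupX t hX) (setupX s hX)
      (compat_h' w₃) e fun z => ?_
    rw [op_apply, op_apply, chCast_pullOp, chCast_trans]
    rw [← pullOp_pullOp_comm t.f' h h' s.f' w₂.symm (relDim_f' f hr t) hr₁ hr₂ (relDim_f' f hr s) (setupX t hX)
      (setupY t hY) (setupX s hX) (setupY s hY) (compat_f' f hδ t) (compat_h w₁) (compat_h' w₃) (compat_f' f hδ s)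
      (show k + (r' : ℤ) + r = k + r + r' by ring) z, chCast_trans]
  gysin s t i _ j _ w₁ w₂ w₃ L hL σ hσ τ hτ k := by
    haveI := flat_f' f s
    haveI := lft_f' f s
    haveI := flat_f' f t
    haveI := lft_f' f t
    have e : k - -(r : ℤ) - 1 = k - 1 - -(r : ℤ) := by ring
    have hi := delta_closedImmersion i (compat_h w₁)
    have hj := delta_closedImmersion j (compat_h' w₃)
    have hN := Groth.L18.Ample.isInvertible_pullback s.f' hL
    refine gysinOK_of_apply (setupY s hY) hi hL hσ (setupX s hX) hj hN hτ e fun z => ?_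
    rw [op_apply, op_apply, chCast_gysinOp, chCast_trans,
      ← gysinOp_pullOp_bc s.f' i j t.f' (sq_of_morphism w₁ w₂ w₃).flip (relDim_f' f hr s) (relDim_f' f hr t)
        (setupY s hY) (setupX s hX) (setupY t hY) (setupX t hX) (compat_f' f hδ s) (compat_f' f hδ t) hi hj hL hσ hN
        hτ (Iso.refl _) (show k + (r : ℤ) - 1 = k - 1 + r by ring) z, chCast_trans]

theorem isFlatPullClass : Bivar.IsFlatPullClass f r (cls f hr hX hY hδ) := by
  refine ⟨inferInstance, inferInstance, hr, hδ, fun s k α hα α₁ h₁ hα₁ => ?_⟩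
  haveI := flat_f' f s
  haveI := lft_f' f s
  show op f hr hX hY hδ s k (ChowOps.cl α hα) = _
  rw [op_apply, pullOp_cl s.f' (relDim_f' f hr s) (setupX s hX) (setupY s hY) (compat_f' f hδ s) α hα α₁ h₁
    (chEq (r := r) k ▸ hα₁), Bivar.chCast_cl]

end Groth.L16.BivarFlat
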