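import Groth.Agent.L16.Bivar.Pieces

/-!
# Bivariant classes over a disjoint union of opens
-/

set_option autoImplicit false
set_option linter.style.haveILetI false
set_option linter.unusedSectionVars false
set_option backward.isDefEq.respectTransparency false

universe u

open CategoryTheory CategoryTheory.Limits AlgebraicGeometry

noncomputable section

namespace Groth.L16.BivarGlue

open Groth.L16.BivarOps Groth.L16.BivarPieces

variable {X Y : Scheme.{u}} {δX : X → ℤ} {δY : Y → ℤ} {f : X ⟶ Y} {p : ℤ}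
variable {J : Type u} (s : J → Bivar.Sq f δX δY) [∀ j, IsOpenImmersion (s j).g]

/-- The squares form a decomposition of the base into open and closed parts. -/
structure IsDecomp : Prop where
  disj : ∀ j j' : J, j ≠ j' → Disjoint (Set.range (s j).g.base) (Set.range (s j').g.base)
  cov : ∀ y : Y, ∃ j, y ∈ Set.range (s j).g.base
  setupX : Cyc.IsSetup X δX
  setupY : Cyc.IsSetup Y δY

variable {s}

theorem range_hY (q : Bivar.Sq f δX δY) (j : J) : Set.range (hY (s j) q) = q.g ⁻¹' Set.range (s j).g :=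
  Scheme.Pullback.range_fst q.g (s j).g

theorem range_hX (q : Bivar.Sq f δX δY) (j : J) :
    Set.range (hX (s j) q) = q.f' ⁻¹' (q.g ⁻¹' Set.range (s j).g) := by
  rw [Scheme.Pullback.range_fst q.f' (hY (s j) q), range_hY]

variable (D : IsDecomp s)

include D in
theorem disjX (q : Bivar.Sq f δX δY) (a b : J) (h : a ≠ b) :
    Disjoint (Set.range (hX (s a) q)) (Set.range (hX (s b) q)) := by
  rw [range_hX, range_hX]
  exact ((D.disj a b h).preimage q.g).preimage q.f'

include D in
theorem covX (q : Bivar.Sq f δX δY) (x : q.X') : ∃ a, x ∈ Set.range (hX (s a) q) := by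
  obtain ⟨a, ha⟩ := D.cov (q.g (q.f' x))
  exact ⟨a, by rw [range_hX]; exact ha⟩

include D in
theorem inj (q : Bivar.Sq f δX δY) {k : ℤ} (z z' : ChowOps.CH q.X' q.δX' k)
    (h : ∀ a, rX (s a) q D.setupX D.setupY k z = rX (s a) q D.setupX D.setupY k z') : z = z' :=
  resOp_injective (fun a => hX (s a) q) (disjX D q) (covX D q) (setupX q D.setupX)
    (fun a => setupPX (s a) q D.setupX D.setupY) (fun a => cX (s a) q) z z' h

include D in
theorem res_injective :
    Function.Injective (fun c : Bivar.Cl p f δX δY => fun j : J => c.res (s j)) := fun c d h => by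
  refine Bivar.Cl.ext (funext fun q => funext fun k => AddMonoidHom.ext fun z => inj D q _ _ fun a => ?_)
  rw [rX_op, rX_op, show c.res (s a) = d.res (s a) from congrFun h a]

variable (cj : ∀ j, Bivar.Cl p (s j).f' (s j).δX' (s j).δY')

include D in
theorem exists_glue (q : Bivar.Sq f δX δY) (k : ℤ) (z : ChowOps.CH q.Y' q.δY' k) :
    ∃ y : ChowOps.CH q.X' q.δX' (k - p), ∀ a, rX (s a) q D.setupX D.setupY (k - p) y =
      (cj a).op (piece (s a) q) k (rY (s a) q D.setupX D.setupY k z) :=
  resOp_surjective (fun a => hX (s a) q) (disjX D q) (covX D q) (setupX q D.setupX)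
    (fun a => setupPX (s a) q D.setupX D.setupY) (fun a => cX (s a) q) _

/-- The glued operation. -/
def op (q : Bivar.Sq f δX δY) (k : ℤ) : ChowOps.CH q.Y' q.δY' k →+ ChowOps.CH q.X' q.δX' (k - p) :=
  AddMonoidHom.mk' (fun z => (exists_glue D cj q k z).choose) fun z z' => inj D q _ _ fun a => by
    rw [(exists_glue D cj q k _).choose_spec a, map_add, map_add, map_add,
      (exists_glue D cj q k z).choose_spec a, (exists_glue D cj q k z').choose_spec a]

theorem rX_glue (q : Bivar.Sq f δX δY) (k : ℤ) (z : ChowOps.CH q.Y' q.δY' k) (a : J) :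
    rX (s a) q D.setupX D.setupY (k - p) (op D cj q k z) =
      (cj a).op (piece (s a) q) k (rY (s a) q D.setupX D.setupY k z) :=
  (exists_glue D cj q k z).choose_spec a

theorem chCast_resOp {X W : Scheme.{u}} {δ : X → ℤ} {δW : W → ℤ} (j : W ⟶ X) [IsOpenImmersion j]
    (hX : Cyc.IsSetup X δ) (hW : Cyc.IsSetup W δW) (hδ : Cyc.DeltaCompat j δW δ) {k l : ℤ} (e : k = l)
    (z : ChowOps.CH X δ k) :
    resOp j hX hW hδ l (Bivar.chCast X δ e z) = Bivar.chCast W δW e (resOp j hX hW hδ k z) := by
  subst e; rfl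

/-- The glued class. -/
def cls : Bivar.Cl p f δX δY where
  op := op D cj
  push q t h _ h' _ w₁ w₂ w₃ k := by
    refine pushOK_of_apply (setupY t D.setupY) (setupY q D.setupY) (compat_h w₁) (setupX t D.setupX)
      (setupX q D.setupX) (compat_h' w₃) fun z => inj D q _ _ fun a => ?_
    haveI : IsProper (mapY (s := s a) w₁) := MorphismProperty.of_isPullback (isPullbackY w₁) ‹IsProper h›
    haveI : IsProper (mapX (s := s a) w₁ w₂) := MorphismProperty.of_isPullback (isPullbackX w₁ w₂) ‹IsProper h'›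
    have cmY := compat_h (s := piece (s a) q) (t := piece (s a) t) (mapY_g w₁)
    have cmX := compat_h' (s := piece (s a) q) (t := piece (s a) t) (mapX_g' w₁ w₂ w₃)
    rw [rX_glue,
      show rY (s a) q D.setupX D.setupY k (pushOp h _ _ _ k z) = pushOp (mapY w₁) _ _ cmY k
        (rY (s a) t D.setupX D.setupY k z) from
        resOp_pushOp (hY (s a) t) (hY (s a) q) h (mapY w₁) (isPullbackY w₁) _ _ _ _ _ _ _ _ z,
      push_apply (setupPY (s a) t D.setupX D.setupY) (setupPY (s a) q D.setupX D.setupY) cmY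
        (setupPX (s a) t D.setupX D.setupY) (setupPX (s a) q D.setupX D.setupY) cmX
        ((cj a).push (piece (s a) q) (piece (s a) t) (mapY w₁) (mapX w₁ w₂) (mapY_g w₁) (mapX_f' w₁ w₂)
          (mapX_g' w₁ w₂ w₃) k),
      ← rX_glue D cj t k z a]
    exact (resOp_pushOp (hX (s a) t) (hX (s a) q) h' (mapX w₁ w₂) (isPullbackX w₁ w₂) _ _ _ _ _ _ _ _ _).symm
  pull q t h _ h' _ r hr hr' w₁ w₂ w₃ k := by
    haveI := lft_h w₁
    haveI := lft_h' w₃
    have e : k - p + (r : ℤ) = k + r - p := by ring
    refine pullOK_of_apply hr hr' (setupY t D.setupY) (setupY q D.setupY) (compat_h w₁) (setupX t D.setupX)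
      (setupX q D.setupX) (compat_h' w₃) e fun z => inj D t _ _ fun a => ?_
    have sY := isPullbackY (s := s a) w₁
    have sX := isPullbackX (s := s a) w₁ w₂
    haveI : Flat (mapY (s := s a) w₁) := MorphismProperty.of_isPullback sY ‹Flat h›
    haveI : LocallyOfFiniteType (mapY (s := s a) w₁) :=
      MorphismProperty.of_isPullback sY ‹LocallyOfFiniteType h›
    haveI : Flat (mapX (s := s a) w₁ w₂) := MorphismProperty.of_isPullback sX ‹Flat h'›
    haveI : LocallyOfFiniteType (mapX (s := s a) w₁ w₂) :=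
      MorphismProperty.of_isPullback sX ‹LocallyOfFiniteType h'›
    have rY' := Groth.L22.Cyc.hasRelDim_baseChange sY hr
    have rX' := Groth.L22.Cyc.hasRelDim_baseChange sX hr'
    have cmY := compat_h (s := piece (s a) q) (t := piece (s a) t) (mapY_g w₁)
    have cmX := compat_h' (s := piece (s a) q) (t := piece (s a) t) (mapX_g' w₁ w₂ w₃)
    rw [rX_glue, chCast_resOp,
      show rY (s a) t D.setupX D.setupY (k + r) (pullOp h hr _ _ _ k z) = pullOp (mapY w₁) rY' _ _ cmY k
        (rY (s a) q D.setupX D.setupY k z) from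
        resOp_pullOp (hY (s a) t) (hY (s a) q) h (mapY w₁) (mapY_hY w₁) hr rY' _ _ _ _ _ _ _ _ z,
      pull_apply rY' rX' (setupPY (s a) t D.setupX D.setupY) (setupPY (s a) q D.setupX D.setupY) cmY
        (setupPX (s a) t D.setupX D.setupY) (setupPX (s a) q D.setupX D.setupY) cmX
        ((cj a).pull (piece (s a) q) (piece (s a) t) (mapY w₁) (mapX w₁ w₂) r rY' rX' (mapY_g w₁)
          (mapX_f' w₁ w₂) (mapX_g' w₁ w₂ w₃) k) e,
      ← rX_glue D cj q k z a]
    refine congrArg _ ?_
    exact (resOp_pullOp (hX (s a) t) (hX (s a) q) h' (mapX w₁ w₂) (mapX_hX w₁ w₂) hr' rX' _ _ _ _ _ _ _ _ _).symm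
  gysin q t i _ j _ w₁ w₂ w₃ L hL σ hσ τ hτ k := by
    have hi := delta_closedImmersion i (compat_h w₁)
    have hj := delta_closedImmersion j (compat_h' w₃)
    have hN := Groth.L18.Ample.isInvertible_pullback q.f' hL
    have e : k - p - 1 = k - 1 - p := by ring
    refine gysinOK_of_apply (setupY q D.setupY) hi hL hσ (setupX q D.setupX) hj hN hτ e fun z =>
      inj D t _ _ fun a => ?_
    have sY := isPullbackY (s := s a) w₁
    have sX := isPullbackX (s := s a) w₁ w₂
    haveI : IsClosedImmersion (mapY (s := s a) w₁) := MorphismProperty.of_isPullback sY ‹IsClosedImmersion i›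
    haveI : IsClosedImmersion (mapX (s := s a) w₁ w₂) :=
      MorphismProperty.of_isPullback sX ‹IsClosedImmersion j›
    have cmY := compat_h (s := piece (s a) q) (t := piece (s a) t) (mapY_g w₁)
    have cmX := compat_h' (s := piece (s a) q) (t := piece (s a) t) (mapX_g' w₁ w₂ w₃)
    have hi' := delta_closedImmersion (mapY (s := s a) w₁) cmY
    have hj' := delta_closedImmersion (mapX (s := s a) w₁ w₂) cmX
    have hLa := Groth.L18.Ample.isInvertible_pullback (hY (s a) q) hL
    have hσa := Groth.L22.P1Zero.isZeroSchemeOf_iso (mapY (s := s a) w₁) (pullback.fst (hY (s a) q) i)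
      sY.flip.isoPullback.hom sY.flip.isoPullback_hom_fst
      (Groth.L22.C1.isZeroScheme_base (hY (s a) q) i hL σ hσ)
    have hNa := Groth.L18.Ample.isInvertible_pullback (piece (s a) q).f' hLa
    have hτ0 := Groth.L22.P1Zero.isZeroSchemeOf_iso (mapX (s := s a) w₁ w₂) (pullback.fst (hX (s a) q) j)
      sX.flip.isoPullback.hom sX.flip.isoPullback_hom_fst
      (Groth.L22.C1.isZeroScheme_base (hX (s a) q) j hN τ hτ)
    let φ : (Scheme.Modules.pullback (hX (s a) q)).obj ((Scheme.Modules.pullback q.f').obj L) ≅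
        (Scheme.Modules.pullback (piece (s a) q).f').obj ((Scheme.Modules.pullback (hY (s a) q)).obj L) :=
      (Scheme.Modules.pullbackComp (hX (s a) q) q.f').app L ≪≫
        (Scheme.Modules.pullbackCongr (eqF (s a) q)).app L ≪≫
        ((Scheme.Modules.pullbackComp (piece (s a) q).f' (hY (s a) q)).app L).symm
    have hτa := isZeroScheme_iso φ (Groth.L18.Ample.isInvertible_pullback (hX (s a) q) hN) hNa hτ0
    rw [rX_glue, chCast_resOp,
      show rY (s a) t D.setupX D.setupY (k - 1) (gysinOp i (setupY q D.setupY) hi hL hσ k z) =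
          gysinOp (mapY w₁) (setupPY (s a) q D.setupX D.setupY) hi' hLa hσa k
            (rY (s a) q D.setupX D.setupY k z) from
        resOp_gysinOp (hY (s a) t) (hY (s a) q) i (mapY w₁) sY.flip _ _ _ _ _ _ hi hi' hL hσ hLa hσa
          (Iso.refl _) z,
      gysin_apply (setupPY (s a) q D.setupX D.setupY) hi' hLa hσa (setupPX (s a) q D.setupX D.setupY) hj' hNa hτa
        ((cj a).gysin (piece (s a) q) (piece (s a) t) (mapY w₁) (mapX w₁ w₂) (mapY_g w₁) (mapX_f' w₁ w₂)
          (mapX_g' w₁ w₂ w₃) _ hLa _ hσa _ hτa k) e,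
      ← rX_glue D cj q k z a]
    refine congrArg _ ?_
    exact (resOp_gysinOp (hX (s a) t) (hX (s a) q) j (mapX w₁ w₂) sX.flip _ _ _ _ _ _ hj hj' hN hτ hNa hτa
      φ _).symm

theorem res_cls (a : J) : (cls D cj).res (s a) = cj a := by
  refine Bivar.Cl.ext (funext fun t => funext fun k => AddMonoidHom.ext fun z => ?_)
  have hsurj : ∀ x : t.X', ∃ _ : PUnit.{u + 1}, x ∈ Set.range (hX (s a) ((s a).paste t)) := fun x => by
    refine ⟨⟨⟩, ?_⟩
    rw [range_hX]
    exact ⟨t.g (t.f' x), rfl⟩
  refine resOp_injective (fun _ : PUnit.{u + 1} => hX (s a) ((s a).paste t))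
    (fun i j h => absurd (Subsingleton.elim i j) h) hsurj (setupX ((s a).paste t) D.setupX)
    (fun _ => setupPX (s a) ((s a).paste t) D.setupX D.setupY) (fun _ => cX (s a) ((s a).paste t)) _ _ fun _ => ?_
  show rX (s a) ((s a).paste t) D.setupX D.setupY (k - p) (op D cj ((s a).paste t) k z) = _
  rw [rX_glue]
  refine op_res (cj a) t (piece (s a) ((s a).paste t)) (hY (s a) ((s a).paste t)) (hX (s a) ((s a).paste t))
    ?_ (eqF (s a) ((s a).paste t)) ?_ _ _ _ _ _ _ k z
  · rw [← cancel_mono (s a).g, Category.assoc]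
    exact (eqY (s a) ((s a).paste t)).symm
  · haveI := open_g' (s a)
    rw [← cancel_mono (s a).g', Category.assoc]
    exact (toX_g' (s a) ((s a).paste t)).symm

include D in
theorem res_surjective :
    Function.Surjective (fun c : Bivar.Cl p f δX δY => fun j : J => c.res (s j)) :=
  fun cj => ⟨cls D cj, funext fun a => res_cls D cj a⟩

end Groth.L16.BivarGlue
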