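import Groth.Agent.L16.Bivar.Squares

/-!
# Gysin maps as bivariant classes
-/

set_option autoImplicit false
set_option linter.style.haveILetI false
set_option linter.unusedSectionVars false
set_option backward.isDefEq.respectTransparency false

universe u

open CategoryTheory CategoryTheory.Limits AlgebraicGeometry

noncomputable section

namespace Groth.L16.BivarGysin

open Groth.L16.BivarOps

variable {X D : Scheme.{u}} {δX : X → ℤ} {δD : D → ℤ} (i : D ⟶ X) [IsClosedImmersion i] (hX : Cyc.IsSetup X δX)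
  (hD : Cyc.IsSetup D δD) (hδ : Cyc.DeltaCompat i δD δX) {L : X.Modules} (hL : PicF.IsInvertible L)
  {σ : L.presheaf.obj (Opposite.op ⊤)} (hσ : Cyc.IsZeroSchemeOf i L σ)

include i in
theorem closed_f' (s : Bivar.Sq i δD δX) : IsClosedImmersion s.f' :=
  MorphismProperty.of_isPullback s.isPullback.flip ‹IsClosedImmersion i›

include hδ in
theorem delta_f' (s : Bivar.Sq i δD δX) : s.δX' = fun d => s.δY' (s.f' d) :=
  haveI := closed_f' i s
  delta_closedImmersion s.f' (deltaCompat_side s.isPullback.w hδ s.compatY s.compatX)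

include hL hσ in
theorem exists_tau (s : Bivar.Sq i δD δX) :
    ∃ τ, Cyc.IsZeroSchemeOf s.f' ((Scheme.Modules.pullback s.g).obj L) τ :=
  ⟨_, Groth.L22.P1Zero.isZeroSchemeOf_iso s.f' (pullback.fst s.g i) s.isPullback.isoPullback.hom
    s.isPullback.isoPullback_hom_fst (Groth.L22.C1.isZeroScheme_base s.g i hL σ hσ)⟩

/-- The Gysin map on a square. -/
def op (s : Bivar.Sq i δD δX) (k : ℤ) : ChowOps.CH s.Y' s.δY' k →+ ChowOps.CH s.X' s.δX' (k - 1) :=
  haveI := closed_f' i s
  gysinOp s.f' (setupY s hX) (delta_f' i hδ s) (Groth.L18.Ample.isInvertible_pullback s.g hL)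
    (exists_tau i hL hσ s).choose_spec k

theorem op_apply (s : Bivar.Sq i δD δX) (k : ℤ) (z : ChowOps.CH s.Y' s.δY' k) :
    haveI := closed_f' i s
    op i hX hδ hL hσ s k z = gysinOp s.f' (setupY s hX) (delta_f' i hδ s)
      (Groth.L18.Ample.isInvertible_pullback s.g hL) (exists_tau i hL hσ s).choose_spec k z := rfl

/-- The comparison of pullbacks along a morphism of squares. -/
def pullIso {s t : Bivar.Sq i δD δX} (h : t.Y' ⟶ s.Y') (w : h ≫ s.g = t.g) (L : X.Modules) :
    (Scheme.Modules.pullback h).obj ((Scheme.Modules.pullback s.g).obj L) ≅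
      (Scheme.Modules.pullback t.g).obj L :=
  (Scheme.Modules.pullbackComp h s.g).app L ≪≫ (Scheme.Modules.pullbackCongr w).app L

/-- The Gysin class. -/
def cls : Bivar.Cl 1 i δD δX where
  op := op i hX hδ hL hσ
  push s t h _ h' _ w₁ w₂ w₃ k := by
    haveI := closed_f' i s
    haveI := closed_f' i t
    refine pushOK_of_apply (setupY t hX) (setupY s hX) (compat_h w₁) (setupX t hD) (setupX s hD) (compat_h' w₃)
      fun z => ?_
    rw [op_apply, op_apply]
    exact gysinOp_pushOp_bc h s.f' t.f' h' (sq_of_morphism w₁ w₂ w₃) (setupY s hX) (setupY t hX) (setupX s hD)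
      (setupX t hD) _ _ _ _ (Groth.L18.Ample.isInvertible_pullback s.g hL) _
      (Groth.L18.Ample.isInvertible_pullback t.g hL) _ (pullIso i h w₁ L) z
  pull s t h _ h' _ r hr hr' w₁ w₂ w₃ k := by
    haveI := lft_h w₁
    haveI := lft_h' w₃
    haveI := closed_f' i s
    haveI := closed_f' i t
    have e : k - 1 + (r : ℤ) = k + r - 1 := by ring
    refine pullOK_of_apply hr hr' (setupY t hX) (setupY s hX) (compat_h w₁) (setupX t hD) (setupX s hD)
      (compat_h' w₃) e fun z => ?_
    rw [op_apply, op_apply,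
      ← gysinOp_pullOp_bc h s.f' t.f' h' (sq_of_morphism w₁ w₂ w₃) hr hr' (setupY s hX) (setupY t hX) (setupX s hD)
        (setupX t hD) (compat_h w₁) (compat_h' w₃) (delta_f' i hδ s) (delta_f' i hδ t)
        (Groth.L18.Ample.isInvertible_pullback s.g hL) (exists_tau i hL hσ s).choose_spec
        (Groth.L18.Ample.isInvertible_pullback t.g hL) (exists_tau i hL hσ t).choose_spec (pullIso i h w₁ L) e.symm z,
      chCast_trans]
    rfl
  gysin s t a _ b _ w₁ w₂ w₃ L' hL' σ' hσ' τ' hτ' k := by
    haveI := closed_f' i s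
    haveI := closed_f' i t
    have hi := delta_closedImmersion a (compat_h w₁)
    have hj := delta_closedImmersion b (compat_h' w₃)
    have hN := Groth.L18.Ample.isInvertible_pullback s.f' hL'
    refine gysinOK_of_apply (setupY s hX) hi hL' hσ' (setupX s hD) hj hN hτ' rfl fun z => ?_
    rw [op_apply, op_apply]
    exact gysinOp_gysinOp a s.f' t.f' b (sq_of_morphism w₁ w₂ w₃) (setupY s hX) (setupX s hD) (setupY t hX)
      (setupX t hD) hi (delta_f' i hδ s) (delta_f' i hδ t) hj hL' hσ'
      (Groth.L18.Ample.isInvertible_pullback s.g hL) (exists_tau i hL hσ s).choose_spec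
      (Groth.L18.Ample.isInvertible_pullback t.g hL) (exists_tau i hL hσ t).choose_spec (pullIso i a w₁ L)
      hN hτ' (Iso.refl _) z

theorem isGysinClass : Bivar.IsGysinClass i L σ (cls i hX hD hδ hL hσ) := by
  refine ⟨hL, hσ, hδ, fun s τ hτ k α hα w hw γ hγ hγm => ?_⟩
  haveI := closed_f' i s
  show op i hX hδ hL hσ s k (ChowOps.cl α hα) = _
  have hLs := Groth.L18.Ample.isInvertible_pullback s.g hL
  rw [op_apply, gysinOp_indep s.f' (setupY s hX) (delta_f' i hδ s) (Iso.refl _) hLs hLs
    (exists_tau i hL hσ s).choose_spec hτ]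
  exact gysinOp_cl s.f' (setupY s hX) (delta_f' i hδ s) hLs hτ α hα w hw γ hγ hγm

end Groth.L16.BivarGysin
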