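import Groth.Agent.L22.Bundle.Sub
import Groth.Agent.L22.Chern.VBInject
import Groth.Agent.L18.Grass.GrassProper
import Groth.Agent.L18.Grass.QuotExist
import Groth.Agent.L02.Canon.DescInvertible

/-!
# Every line bundle is the normal bundle of the zero scheme of a section
-/

set_option autoImplicit false
set_option linter.style.haveILetI false
set_option backward.isDefEq.respectTransparency.types false
set_option backward.isDefEq.respectTransparency false

universe u

open CategoryTheory CategoryTheory.Limits AlgebraicGeometry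

namespace Groth.L16.BivarLine

variable {Y : Scheme.{u}}

/-- The projective bundle of a line bundle is the base. -/
theorem isProjBundle_id {L : Y.Modules} (hL : FlatMod.IsFinLocFreeOfRank 1 L) :
    KRR.IsProjBundle (𝟙 Y) L L ((Scheme.Modules.pullbackId Y).hom.app L) where
  invertible := hL
  epi := inferInstance
  univ T g L' hL' s hs := by
    haveI := hs
    haveI : IsIso s := Groth.L02.Canon.DescInvertible.isIso_of_epi_invertible s
      (Groth.L18.Ample.isInvertible_pullback g (Groth.L22.Bundle.isInvertible_of_one hL))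
      (Groth.L22.Bundle.isInvertible_of_one hL')
    let φ := (Scheme.Modules.pullbackCongr (Category.comp_id g)).inv.app L ≫
      (Scheme.Modules.pullbackComp g (𝟙 Y)).inv.app L ≫
        (Scheme.Modules.pullback g).map ((Scheme.Modules.pullbackId Y).hom.app L)
    refine ⟨g, ⟨Category.comp_id g, (asIso φ).symm ≪≫ asIso s, ?_⟩, fun h ⟨hg, _⟩ => by simpa using hg⟩
    simp only [Iso.trans_hom, Iso.symm_hom, asIso_inv, asIso_hom]
    show φ ≫ inv φ ≫ s = s
    exact IsIso.hom_inv_id_assoc _ _

/-- A scheme over `Y` in which `Y` is the zero scheme of a section, with prescribed normal bundle. -/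
theorem exists_zeroSection {L : Y.Modules} (hL : PicF.IsInvertible L) :
    ∃ (P : Scheme.{u}) (p : P ⟶ Y) (z : Y ⟶ P) (M : P.Modules) (σ : M.presheaf.obj (Opposite.op ⊤)),
      IsProper p ∧ IsClosedImmersion z ∧ z ≫ p = 𝟙 Y ∧ PicF.IsInvertible M ∧ Cyc.IsZeroSchemeOf z M σ ∧
        Nonempty ((Scheme.Modules.pullback z).obj M ≅ L) := by
  let O : Y.Modules := Coh.structureModule Y
  have h1 := Groth.L22.Bundle.isFinLocFree_one hL
  have h2 : FlatMod.IsFinLocFreeOfRank 2 (O ⊞ L) := Groth.L22.Chern.isFinLocFreeOfRank_biprod L 1 h1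
  haveI := Groth.L22.Bundle.isQCoh_of_rank h2
  obtain ⟨P, p, O1, q, hP⟩ := Groth.L18.QuotExist.exists_isGrass (O ⊞ L) 1
  have hp : IsProper p := Groth.L18.GrassProper.isProper hP h2 one_le_two
  have hex : (ShortComplex.mk (biprod.inl : O ⟶ O ⊞ L) biprod.snd biprod.inl_snd).ShortExact :=
    ShortComplex.Splitting.shortExact
      { r := biprod.fst, s := biprod.inr, f_r := biprod.inl_fst, s_g := biprod.inr_snd, id := biprod.total }
  let z := Groth.L22.Bundle.subMap hP.isProjBundle (isProjBundle_id h1) _ _ biprod.inl_snd hex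
  have hz : IsClosedImmersion z := Groth.L22.Bundle.isClosedImmersion_subMap _ _ _ _ _ _ h2 h1
  haveI := hz
  exact ⟨P, p, z, O1, Groth.L22.Bundle.secA p q biprod.inl, hp, hz, Groth.L22.Bundle.subMap_comp _ _ _ _ _ _,
    Groth.L22.Bundle.isInvertible_of_one hP.isProjBundle.invertible,
    Groth.L22.Bundle.isZeroSchemeOf_subMap _ _ _ _ _ _, Groth.L22.Bundle.nonempty_subMapIso _ _ _ _ _ _⟩

end Groth.L16.BivarLine
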