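import Groth.Prelude.Def_Bivar2
import Groth.Agent.L16.Bivar.Env
import Groth.Agent.L22.C1.Closed
import Groth.Agent.L22.C1.GysinBC
import Groth.Agent.L22.C1.GysinRel
import Groth.Agent.L22.C1.Iso
import Groth.Agent.L22.Chern.Ops
import Groth.Agent.L18.AmplePull

/-!
# Push-forward, flat pullback, Gysin maps and first Chern class caps on Chow groups
-/

set_option autoImplicit false
set_option linter.style.haveILetI false
set_option backward.isDefEq.respectTransparency false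

universe u

open CategoryTheory CategoryTheory.Limits AlgebraicGeometry

noncomputable section

namespace Groth.L16.BivarOps

open Groth.L22.C1 (exists_cycle_c1Cap gysinChoice_ne_zero)
open Groth.L22.Chern (ratGroup)

variable {X Y D : Scheme.{u}} {δ : X → ℤ} {δY : Y → ℤ} {δD : D → ℤ} {k : ℤ}

theorem setup_of_compat (f : X ⟶ Y) [LocallyOfFiniteType f] (hY : Cyc.IsSetup Y δY)
    (h : Cyc.DeltaCompat f δ δY) : Cyc.IsSetup X δ := by
  obtain ⟨δ', h', hc⟩ := Groth.L22.Cyc.exists_setup f hY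
  exact BivarEnv.deltaCompat_unique f hc h ▸ h'

theorem delta_closedImmersion (i : D ⟶ X) [IsClosedImmersion i] (h : Cyc.DeltaCompat i δD δ) :
    δD = fun d => δ (i d) :=
  BivarEnv.deltaCompat_unique i h (Groth.L22.C1.deltaCompat_closedImmersion i δ)

theorem cl_eq_of_rat {a b : AlgebraicCycle X ℤ} (ha : a ∈ Cyc.Zk X δ k) (hb : b ∈ Cyc.Zk X δ k)
    (h : Cyc.RatEquiv δ k a b) : ChowOps.cl a ha = ChowOps.cl b hb := by
  refine Eq.symm (QuotientAddGroup.eq.2 (AddSubgroup.subset_closure ?_))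
  show Cyc.RatEquivZero δ k (-b + a)
  rw [neg_add_eq_sub]
  exact h

theorem ratTriv_eq (hX : Cyc.IsSetup X δ) {a : ↥(ChowOps.zk X δ k)} (h : a ∈ ChowOps.ratTriv X δ k) :
    Cyc.RatEquivZero δ k a.1 := by
  haveI := hX.1
  have : ChowOps.ratTriv X δ k ≤ (ratGroup hX.2.2 k).comap (ChowOps.zk X δ k).subtype :=
    (AddSubgroup.closure_le _).2 fun c hc => hc
  exact this h

theorem rat_of_cl_eq (hX : Cyc.IsSetup X δ) {a b : AlgebraicCycle X ℤ} (ha : a ∈ Cyc.Zk X δ k)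
    (hb : b ∈ Cyc.Zk X δ k) (h : ChowOps.cl a ha = ChowOps.cl b hb) : Cyc.RatEquiv δ k a b := by
  have := ratTriv_eq hX (QuotientAddGroup.eq.1 h.symm)
  show Cyc.RatEquivZero δ k (a - b)
  rw [← neg_add_eq_sub]
  exact this

theorem c1CapFun_mem {L : X.Modules} {α : AlgebraicCycle X ℤ} (hα : α ∈ Cyc.Zk X δ k)
    (s : (ξ : X) → Cyc.secFibre L ξ) {x : X} (hx : δ x ≠ k - 1) : Cyc.c1CapFun δ L ⇑α s x = 0 := by
  refine finsum_eq_zero_of_forall_eq_zero fun ξ => ?_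
  by_contra h
  obtain ⟨h1, h2⟩ := mul_ne_zero_iff.1 h
  have h3 := (Groth.L22.C1.secDivFun_ne_zero δ h2).2
  have : δ ξ = k := by_contra fun e => h1 (hα ξ e)
  omega

theorem c1_mem {L : X.Modules} {α : AlgebraicCycle X ℤ} (hα : α ∈ Cyc.Zk X δ k)
    {s : (ξ : X) → Cyc.secFibre L ξ} {γ : AlgebraicCycle X ℤ} (hγ : ⇑γ = Cyc.c1CapFun δ L ⇑α s) :
    γ ∈ Cyc.Zk X δ (k - 1) := fun x hx => by rw [hγ]; exact c1CapFun_mem hα s hx

theorem gysin_mem {i : D ⟶ X} (hi : δD = fun d => δ (i d)) {L : X.Modules} {α : AlgebraicCycle X ℤ}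
    (hα : α ∈ Cyc.Zk X δ k) {s : (ξ : X) → Cyc.secFibre L ξ} {γ : AlgebraicCycle D ℤ}
    (hγ : ∀ d, γ d = Cyc.c1CapFun δ L ⇑α s (i d)) : γ ∈ Cyc.Zk D δD (k - 1) := fun d hd => by
  rw [hγ]
  exact c1CapFun_mem hα s (by rw [hi] at hd; exact hd)

theorem exists_sec {L : X.Modules} (hL : PicF.IsInvertible L) :
    ∃ v : (ξ : X) → Cyc.secFibre L ξ, ∀ ξ, v ξ ≠ 0 := by
  choose g hg using Groth.L22.C1.exists_isGen hL
  exact ⟨fun ξ => Groth.L22.C1.mk L (g ξ), fun ξ => Groth.L22.C1.mk_gen_ne_zero hL (hg ξ)⟩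

/-- A map on cycles that kills rationally trivial cycles descends. -/
def descend {δ' : Y → ℤ} {l : ℤ} (φ : ↥(ChowOps.zk X δ k) →+ ChowOps.CH Y δ' l)
    (h : ∀ a, Cyc.RatEquivZero δ k a.1 → φ a = 0) : ChowOps.CH X δ k →+ ChowOps.CH Y δ' l :=
  QuotientAddGroup.lift _ φ ((AddSubgroup.closure_le _).2 h)

theorem descend_cl {δ' : Y → ℤ} {l : ℤ} (φ : ↥(ChowOps.zk X δ k) →+ ChowOps.CH Y δ' l)
    (h : ∀ a, Cyc.RatEquivZero δ k a.1 → φ a = 0) (α : AlgebraicCycle X ℤ) (hα : α ∈ Cyc.Zk X δ k) :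
    descend φ h (ChowOps.cl α hα) = φ ⟨α, hα⟩ := rfl

section C1

variable (hX : Cyc.IsSetup X δ) {L M : X.Modules} (hL : PicF.IsInvertible L)

include hX hL in
theorem exists_c1 (α : AlgebraicCycle X ℤ) :
    ∃ γ : AlgebraicCycle X ℤ, ⇑γ = Cyc.c1CapFun δ L ⇑α (exists_sec hL).choose := by
  haveI := hX.1
  exact exists_cycle_c1Cap hX.2.2 hL α _ (exists_sec hL).choose_spec

/-- Cap with the first Chern class on cycles. -/
def c1Fun (k : ℤ) : ↥(ChowOps.zk X δ k) →+ ChowOps.CH X δ (k - 1) :=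
  AddMonoidHom.mk' (fun a => ChowOps.cl (exists_c1 hX hL a.1).choose
      (c1_mem a.2 (exists_c1 hX hL a.1).choose_spec)) fun a b => by
    refine (Bivar.cl_congr (DFunLike.coe_injective ?_) _ _).trans (Bivar.cl_add _ _ _ _)
    rw [(exists_c1 hX hL (a + b).1).choose_spec, Function.locallyFinsuppWithin.coe_add,
      (exists_c1 hX hL a.1).choose_spec, (exists_c1 hX hL b.1).choose_spec, ← Bivar.c1CapFun_add]
    rfl

/-- Cap with the first Chern class on Chow groups. -/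
def c1Op (k : ℤ) : ChowOps.CH X δ k →+ ChowOps.CH X δ (k - 1) :=
  descend (c1Fun hX hL k) fun a h0 => by
    haveI := hX.1
    refine (cl_eq_of_rat (b := 0) _ (ChowOps.zk X δ (k - 1)).zero_mem ?_).trans Bivar.cl_zero
    show Cyc.RatEquivZero δ (k - 1) (_ - 0)
    rw [sub_zero]
    refine (Groth.L22.C1.ratOn_c1Cap_ratEquivZero hX.2.2 hL (k - 1) a.1 (by rwa [sub_add_cancel]) _
      (exists_sec hL).choose_spec Set.univ fun p ξ hξ => absurd trivial hξ).ratEquivZero _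
      (exists_c1 hX hL a.1).choose_spec

theorem c1Op_cl (α : AlgebraicCycle X ℤ) (hα : α ∈ Cyc.Zk X δ k) (s : (ξ : X) → Cyc.secFibre L ξ)
    (hs : ∀ ξ, s ξ ≠ 0) (γ : AlgebraicCycle X ℤ) (hγ : ⇑γ = Cyc.c1CapFun δ L ⇑α s)
    (hγm : γ ∈ Cyc.Zk X δ (k - 1)) : c1Op hX hL k (ChowOps.cl α hα) = ChowOps.cl γ hγm := by
  haveI := hX.1
  exact cl_eq_of_rat _ _ (Groth.L22.C1.c1Cap_ratEquiv δ hX.2.2 hL (k - 1) α (by rwa [sub_add_cancel]) _ s
    (exists_sec hL).choose_spec hs _ γ (exists_c1 hX hL α).choose_spec hγ)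

theorem c1Op_iso (φ : L ≅ M) (hM : PicF.IsInvertible M) (z : ChowOps.CH X δ k) :
    c1Op hX hL k z = c1Op hX hM k z := by
  haveI := hX.1
  obtain ⟨α, hα, rfl⟩ := Bivar.exists_rep z
  obtain ⟨v, hv⟩ := exists_sec hL
  obtain ⟨γ, hγ⟩ := exists_cycle_c1Cap hX.2.2 hL α v hv
  rw [c1Op_cl hX hL α hα v hv γ hγ (c1_mem hα hγ)]
  refine (c1Op_cl hX hM α hα (fun ξ => Groth.L22.C1.mapSec φ.hom ξ (v ξ))
    (fun ξ => Groth.L22.C1.mapSec_ne_zero φ.hom hL hM ξ _ (hv ξ)) γ ?_ _).symm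
  rw [hγ]
  funext x
  exact finsum_congr fun ξ => by rw [Groth.L22.C1.secDivFun_mapSec φ.hom hL hM hX.2.2]

end C1

section Push

variable (f : X ⟶ Y) [IsProper f] (hX : Cyc.IsSetup X δ) (hY : Cyc.IsSetup Y δY) (hδ : Cyc.DeltaCompat f δ δY)

/-- Push-forward of cycles with values in classes. -/
def pushFun (δ : X → ℤ) (δY : Y → ℤ) (k : ℤ) : ↥(ChowOps.zk X δ k) →+ ChowOps.CH Y δY k :=
  AddMonoidHom.mk' (fun a => ChowOps.cl (AlgebraicCycle.map f δ δY a.1) (Bivar.cycMap_mem_Zk f δ δY k a.2))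
    fun a b => (Bivar.cl_congr (Bivar.cycMap_add f δ δY a.1 b.1) _
      ((ChowOps.zk Y δY k).add_mem (Bivar.cycMap_mem_Zk f δ δY k a.2) (Bivar.cycMap_mem_Zk f δ δY k b.2))).trans rfl

/-- Proper push-forward on Chow groups. -/
def pushOp (k : ℤ) : ChowOps.CH X δ k →+ ChowOps.CH Y δY k :=
  descend (pushFun f δ δY k) fun a h0 => by
    haveI := hX.1
    haveI := hY.1
    refine (cl_eq_of_rat (b := 0) _ (ChowOps.zk Y δY k).zero_mem ?_).trans Bivar.cl_zero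
    show Cyc.RatEquivZero δY k (_ - 0)
    rw [sub_zero]
    exact Groth.L22.Chern.pushC_rat f hX.2.2 hY.2.2 hδ h0

theorem pushOp_cl (α : AlgebraicCycle X ℤ) (hα : α ∈ Cyc.Zk X δ k) :
    pushOp f hX hY hδ k (ChowOps.cl α hα) =
      ChowOps.cl (AlgebraicCycle.map f δ δY α) (Bivar.cycMap_mem_Zk f δ δY k hα) := rfl

theorem c1Op_pushOp {L : Y.Modules} (hL : PicF.IsInvertible L)
    (hL' : PicF.IsInvertible ((Scheme.Modules.pullback f).obj L)) (z : ChowOps.CH X δ k) :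
    c1Op hY hL k (pushOp f hX hY hδ k z) = pushOp f hX hY hδ (k - 1) (c1Op hX hL' k z) := by
  haveI := hX.1
  haveI := hY.1
  obtain ⟨α, hα, rfl⟩ := Bivar.exists_rep z
  obtain ⟨u, hu⟩ := exists_sec hL'
  obtain ⟨v, hv⟩ := exists_sec hL
  obtain ⟨γ, hγ⟩ := exists_cycle_c1Cap hX.2.2 hL' α u hu
  obtain ⟨γ', hγ'⟩ := exists_cycle_c1Cap hY.2.2 hL (AlgebraicCycle.map f δ δY α) v hv
  have hm := Bivar.cycMap_mem_Zk f δ δY k hα
  rw [c1Op_cl hX hL' α hα u hu γ hγ (c1_mem hα hγ), pushOp_cl, pushOp_cl,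
    c1Op_cl hY hL _ hm v hv γ' hγ' (c1_mem hm hγ')]
  exact (cl_eq_of_rat _ _ (Groth.L22.C1.map_c1Cap f hX.2.2 hY.2.2 hL hδ (k - 1) α
    (by rwa [sub_add_cancel]) u hu v hv γ hγ γ' hγ')).symm

end Push

section Pull

variable (f : X ⟶ Y) [Flat f] [LocallyOfFiniteType f] {r : ℕ} (hr : Cyc.HasRelDim f r)
  (hX : Cyc.IsSetup X δ) (hY : Cyc.IsSetup Y δY) (hδ : Cyc.DeltaCompat f δ δY)

omit [Flat f] in
include hr hδ in
theorem shift : Groth.L22.Chern.Shift f δ δY (r : ℤ) := fun x hx =>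
  Groth.L22.Cyc.shift_of_deltaCompat f hr hδ x hx

omit [Flat f] in
include hX hr hδ in
theorem exists_pullCycle (α : AlgebraicCycle Y ℤ) :
    ∃ γ : AlgebraicCycle X ℤ, ⇑γ = Cyc.pullFun f δ δY (r : ℤ) ⇑α :=
  haveI := hX.1
  Groth.L22.Chern.exists_pull f (shift f hr hδ) α

/-- Flat pullback of cycles with values in classes. -/
def pullClFun (k : ℤ) : ↥(ChowOps.zk Y δY k) →+ ChowOps.CH X δ (k + r) :=
  AddMonoidHom.mk' (fun a => ChowOps.cl (exists_pullCycle f hr hX hδ a.1).choose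
      (Bivar.pullFun_mem_Zk f δ δY r k a.2 _ (exists_pullCycle f hr hX hδ a.1).choose_spec)) fun a b => by
    refine (Bivar.cl_congr (DFunLike.coe_injective ?_) _ _).trans (Bivar.cl_add _ _ _ _)
    rw [(exists_pullCycle f hr hX hδ (a + b).1).choose_spec, Function.locallyFinsuppWithin.coe_add,
      (exists_pullCycle f hr hX hδ a.1).choose_spec, (exists_pullCycle f hr hX hδ b.1).choose_spec,
      ← Bivar.pullFun_add]
    rfl

/-- Flat pullback on Chow groups. -/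
def pullOp (k : ℤ) : ChowOps.CH Y δY k →+ ChowOps.CH X δ (k + r) :=
  descend (pullClFun f hr hX hδ k) fun a h0 => by
    haveI := hX.1
    haveI := hY.1
    refine (cl_eq_of_rat (b := 0) _ (ChowOps.zk X δ (k + r)).zero_mem ?_).trans Bivar.cl_zero
    show Cyc.RatEquivZero δ (k + r) (_ - 0)
    rw [sub_zero]
    exact Groth.L22.Cyc.ratEquivZero_pullFun (p := f) hY.2.2 hX.2.2 (shift f hr hδ) a.1 h0 _
      (exists_pullCycle f hr hX hδ a.1).choose_spec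

theorem pullOp_cl (α : AlgebraicCycle Y ℤ) (hα : α ∈ Cyc.Zk Y δY k) (γ : AlgebraicCycle X ℤ)
    (hγ : ⇑γ = Cyc.pullFun f δ δY (r : ℤ) ⇑α) (hγm : γ ∈ Cyc.Zk X δ (k + r)) :
    pullOp f hr hX hY hδ k (ChowOps.cl α hα) = ChowOps.cl γ hγm :=
  Bivar.cl_congr (DFunLike.coe_injective
    ((exists_pullCycle f hr hX hδ α).choose_spec.trans hγ.symm)) _ _

end Pull

section Gysin

variable (i : D ⟶ X) [IsClosedImmersion i] (hX : Cyc.IsSetup X δ) (hi : δD = fun d => δ (i d))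
  {L : X.Modules} (hL : PicF.IsInvertible L) {σ : L.presheaf.obj (Opposite.op ⊤)}
  (hσ : Cyc.IsZeroSchemeOf i L σ)

include hX hL in
theorem exists_gysin (α : AlgebraicCycle X ℤ) (w : (ξ : X) → Cyc.secFibre L ξ) (hw : ∀ ξ, w ξ ≠ 0) :
    ∃ γ : AlgebraicCycle D ℤ, ∀ d, γ d = Cyc.c1CapFun δ L ⇑α (Cyc.gysinChoice L σ w) (i d) := by
  haveI := hX.1
  obtain ⟨γ, hγ⟩ := exists_cycle_c1Cap hX.2.2 hL α _ (gysinChoice_ne_zero σ w hw)
  obtain ⟨β, hβ⟩ := Groth.L22.C1.exists_cycle_comap i γ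
  exact ⟨β, fun d => by rw [hβ, hγ]⟩

include hX hi hL hσ in
theorem gysin_change (α : AlgebraicCycle X ℤ) (hα : α ∈ Cyc.Zk X δ k)
    (w w' : (ξ : X) → Cyc.secFibre L ξ) (hw : ∀ ξ, w ξ ≠ 0) (hw' : ∀ ξ, w' ξ ≠ 0) (γ γ' : AlgebraicCycle D ℤ)
    (hγ : ∀ d, γ d = Cyc.c1CapFun δ L ⇑α (Cyc.gysinChoice L σ w) (i d))
    (hγ' : ∀ d, γ' d = Cyc.c1CapFun δ L ⇑α (Cyc.gysinChoice L σ w') (i d)) :
    Cyc.RatEquiv δD (k - 1) γ γ' := by
  subst hi
  haveI := hX.1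
  haveI : IsLocallyNoetherian D := LocallyOfFiniteType.isLocallyNoetherian i
  refine (Groth.L22.C1.ratOn_change' hX.2.2 hL (k - 1) α (by rwa [sub_add_cancel]) (Set.range i) _ _
    (gysinChoice_ne_zero σ w hw) (gysinChoice_ne_zero σ w' hw') fun ξ hξ x =>
      Groth.L22.C1.secDivFun_same_zeroScheme hX.2.2 i hL σ σ hσ hσ w w' hξ x).comap i hX.2.2 subset_rfl _
    fun d => ?_
  rw [Function.locallyFinsuppWithin.coe_sub, Pi.sub_apply, hγ, hγ']

/-- The Gysin map on cycles with values in classes. -/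
def gysinFun (k : ℤ) : ↥(ChowOps.zk X δ k) →+ ChowOps.CH D δD (k - 1) :=
  AddMonoidHom.mk' (fun a =>
      ChowOps.cl (exists_gysin i hX hL (σ := σ) a.1 _ (exists_sec hL).choose_spec).choose
        (gysin_mem hi a.2 (exists_gysin i hX hL a.1 _ (exists_sec hL).choose_spec).choose_spec)) fun a b => by
    refine (Bivar.cl_congr (DFunLike.coe_injective (funext fun d => ?_)) _ _).trans (Bivar.cl_add _ _ _ _)
    rw [(exists_gysin i hX hL (a + b).1 _ (exists_sec hL).choose_spec).choose_spec,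
      Function.locallyFinsuppWithin.coe_add, Pi.add_apply,
      (exists_gysin i hX hL a.1 _ (exists_sec hL).choose_spec).choose_spec,
      (exists_gysin i hX hL b.1 _ (exists_sec hL).choose_spec).choose_spec]
    exact congrFun (Bivar.c1CapFun_add δ L a.1 b.1 _) (i d)

include hσ in
/-- The Gysin map on Chow groups. -/
def gysinOp (k : ℤ) : ChowOps.CH X δ k →+ ChowOps.CH D δD (k - 1) :=
  descend (gysinFun i hX hi hL (σ := σ) k) fun a h0 => by
    haveI := hX.1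
    refine (cl_eq_of_rat (b := 0) _ (ChowOps.zk D δD (k - 1)).zero_mem ?_).trans Bivar.cl_zero
    show Cyc.RatEquivZero δD (k - 1) (_ - 0)
    subst hi
    rw [sub_zero]
    exact Groth.L22.C1.gysin_ratEquivZero hX.2.2 hL i σ hσ (k - 1) a.1 (by rwa [sub_add_cancel]) _
      (exists_sec hL).choose_spec _ (exists_gysin i hX hL a.1 _ (exists_sec hL).choose_spec).choose_spec

theorem gysinOp_cl (α : AlgebraicCycle X ℤ) (hα : α ∈ Cyc.Zk X δ k) (w : (ξ : X) → Cyc.secFibre L ξ)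
    (hw : ∀ ξ, w ξ ≠ 0) (γ : AlgebraicCycle D ℤ)
    (hγ : ∀ d, γ d = Cyc.c1CapFun δ L ⇑α (Cyc.gysinChoice L σ w) (i d))
    (hγm : γ ∈ Cyc.Zk D δD (k - 1)) : gysinOp i hX hi hL hσ k (ChowOps.cl α hα) = ChowOps.cl γ hγm :=
  cl_eq_of_rat _ _ (gysin_change i hX hi hL hσ α hα _ w (exists_sec hL).choose_spec hw _ γ
    (exists_gysin i hX hL α _ (exists_sec hL).choose_spec).choose_spec hγ)

/-- The self-intersection formula. -/
theorem gysinOp_pushOp (hD : Cyc.IsSetup D δD) (hδ : Cyc.DeltaCompat i δD δ)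
    (hN : PicF.IsInvertible ((Scheme.Modules.pullback i).obj L)) (z : ChowOps.CH D δD k) :
    gysinOp i hX hi hL hσ k (pushOp i hD hX hδ k z) = c1Op hD hN k z := by
  subst hi
  haveI := hX.1
  haveI := hD.1
  obtain ⟨α, hα, rfl⟩ := Bivar.exists_rep z
  obtain ⟨w, hw⟩ := exists_sec hL
  obtain ⟨t, ht⟩ := exists_sec hN
  obtain ⟨γ, hγ⟩ := exists_gysin i hX hL (σ := σ) (AlgebraicCycle.map i (fun d => δ (i d)) δ α) w hw
  obtain ⟨ζ, hζ⟩ := exists_cycle_c1Cap hD.2.2 hN α t ht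
  have hm := Bivar.cycMap_mem_Zk i (fun d => δ (i d)) δ k hα
  rw [pushOp_cl, gysinOp_cl i hX rfl hL hσ _ hm w hw γ hγ (gysin_mem rfl hm hγ),
    c1Op_cl hD hN α hα t ht ζ hζ (c1_mem hα hζ)]
  exact cl_eq_of_rat _ _ (Groth.L22.C1.c1Cap_map_self i δ hX.2.2 hL σ hσ k α hα w hw t ht γ ζ hγ hζ)

end Gysin

end Groth.L16.BivarOps
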