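import Groth.Agent.L16.Bivar.Clopen
import Groth.Agent.L22.Cyc.BaseChange
import Groth.Agent.L22.C1.GysinBC
import Groth.Agent.L22.Cyc.P1Zero

/-!
# Restricting squares to the base changes of a square along an open immersion
-/

set_option autoImplicit false
set_option linter.style.haveILetI false
set_option linter.unusedSectionVars false
set_option backward.isDefEq.respectTransparency false

universe u

open CategoryTheory CategoryTheory.Limits AlgebraicGeometry

noncomputable section

namespace Groth.L16.BivarPieces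

open Groth.L16.BivarOps

variable {X Y : Scheme.{u}} {δX : X → ℤ} {δY : Y → ℤ} {f : X ⟶ Y} {p : ℤ}
variable (s : Bivar.Sq f δX δY) (q : Bivar.Sq f δX δY)

/-- The part of a test scheme over `s.Y'`. -/
abbrev hY : pullback q.g s.g ⟶ q.Y' := pullback.fst q.g s.g

/-- The part of the fibre product over `s.Y'`. -/
abbrev hX : pullback q.f' (hY s q) ⟶ q.X' := pullback.fst q.f' (hY s q)

theorem eqY : pullback.snd q.g s.g ≫ s.g = hY s q ≫ q.g := pullback.condition.symm

theorem eqF : hX s q ≫ q.f' = pullback.snd q.f' (hY s q) ≫ hY s q := pullback.condition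

/-- The second projection of the part of the fibre product over `s.Y'`. -/
def toX : pullback q.f' (hY s q) ⟶ s.X' :=
  s.isPullback.lift (pullback.snd q.f' (hY s q) ≫ pullback.snd q.g s.g) (hX s q ≫ q.g') (by
    rw [Category.assoc, eqY, ← Category.assoc, ← eqF, Category.assoc, q.isPullback.w, Category.assoc])

theorem toX_f' : toX s q ≫ s.f' = pullback.snd q.f' (hY s q) ≫ pullback.snd q.g s.g :=
  s.isPullback.lift_fst _ _ _

theorem toX_g' : toX s q ≫ s.g' = hX s q ≫ q.g' := s.isPullback.lift_snd _ _ _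

theorem isPullback_toX : IsPullback (pullback.snd q.f' (hY s q)) (toX s q) (pullback.snd q.g s.g) s.f' := by
  refine IsPullback.of_bot ?_ (toX_f' s q).symm s.isPullback
  rw [toX_g', eqY]
  exact (IsPullback.of_hasPullback q.f' (hY s q)).flip.paste_vert q.isPullback

variable [IsOpenImmersion s.g]

theorem open_g' : IsOpenImmersion s.g' :=
  MorphismProperty.of_isPullback s.isPullback ‹IsOpenImmersion s.g›

/-- The part over `s.Y'` of a square, as a square over the base change along `s`. -/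
@[reducible] def piece : Bivar.Sq s.f' s.δX' s.δY' where
  Y' := pullback q.g s.g
  X' := pullback q.f' (hY s q)
  g := pullback.snd q.g s.g
  f' := pullback.snd q.f' (hY s q)
  g' := toX s q
  isPullback := isPullback_toX s q
  lft := haveI := q.lft; inferInstance
  δY' := fun y => q.δY' (hY s q y)
  δX' := fun x => q.δX' (hX s q x)
  compatY := Groth.L22.Bundle.deltaCompat_cancel _ s.g
    (eqY s q ▸ Bivar.deltaCompat_comp _ q.g _ _ _ (deltaCompat_openImmersion (hY s q) q.δY') q.compatY) s.compatY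
  compatX := Groth.L22.Bundle.deltaCompat_cancel _ s.g'
    (toX_g' s q ▸ Bivar.deltaCompat_comp _ q.g' _ _ _ (deltaCompat_openImmersion (hX s q) q.δX') q.compatX) s.compatX

theorem cY : Cyc.DeltaCompat (hY s q) (piece s q).δY' q.δY' := deltaCompat_openImmersion (hY s q) q.δY'

theorem cX : Cyc.DeltaCompat (hX s q) (piece s q).δX' q.δX' := deltaCompat_openImmersion (hX s q) q.δX'

theorem paste_g : ((s.paste (piece s q))).g = hY s q ≫ q.g := eqY s q

theorem paste_g' : ((s.paste (piece s q))).g' = hX s q ≫ q.g' := toX_g' s q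

variable (hXs : Cyc.IsSetup X δX) (hYs : Cyc.IsSetup Y δY)

include hXs hYs in
theorem setupPY : Cyc.IsSetup (piece s q).Y' (piece s q).δY' :=
  setupY (s.paste (piece s q)) hYs

include hXs hYs in
theorem setupPX : Cyc.IsSetup (piece s q).X' (piece s q).δX' :=
  setupX (s.paste (piece s q)) hXs

/-- Restriction to the part over `s.Y'`. -/
abbrev rY (k : ℤ) : ChowOps.CH q.Y' q.δY' k →+ ChowOps.CH (piece s q).Y' (piece s q).δY' k :=
  resOp (hY s q) (setupY q hYs) (setupPY s q hXs hYs) (cY s q) k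

/-- Restriction to the part over `s.Y'`. -/
abbrev rX (k : ℤ) : ChowOps.CH q.X' q.δX' k →+ ChowOps.CH (piece s q).X' (piece s q).δX' k :=
  resOp (hX s q) (setupX q hXs) (setupPX s q hXs hYs) (cX s q) k

theorem op_cast (c : Bivar.Cl p f δX δY) (t : Bivar.Sq f δX δY) {k l : ℤ} (e : k = l)
    (z : ChowOps.CH t.Y' t.δY' k) :
    c.op t l (Bivar.chCast t.Y' t.δY' e z) = Bivar.chCast t.X' t.δX' (congrArg (· - p) e) (c.op t k z) := by
  subst e; rfl

/-- A class commutes with restriction along open immersions. -/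
theorem op_res (c : Bivar.Cl p f δX δY) (q t : Bivar.Sq f δX δY) (h : t.Y' ⟶ q.Y') [IsOpenImmersion h]
    (h' : t.X' ⟶ q.X') [IsOpenImmersion h'] (w₁ : h ≫ q.g = t.g) (w₂ : h' ≫ q.f' = t.f' ≫ h)
    (w₃ : h' ≫ q.g' = t.g') (hq : Cyc.IsSetup q.Y' q.δY') (hq' : Cyc.IsSetup q.X' q.δX')
    (ht : Cyc.IsSetup t.Y' t.δY') (ht' : Cyc.IsSetup t.X' t.δX') (hδ : Cyc.DeltaCompat h t.δY' q.δY')
    (hδ' : Cyc.DeltaCompat h' t.δX' q.δX') (k : ℤ) (z : ChowOps.CH q.Y' q.δY' k) :
    c.op t k (resOp h hq ht hδ k z) = resOp h' hq' ht' hδ' (k - p) (c.op q k z) := by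
  have e : k + ((0 : ℕ) : ℤ) = k := by simp
  have key := pull_apply (hasRelDim_openImmersion h) (hasRelDim_openImmersion h') ht hq hδ ht' hq' hδ'
    (c.pull q t h h' 0 (hasRelDim_openImmersion h) (hasRelDim_openImmersion h') w₁ w₂ w₃ k)
    (show k - p + ((0 : ℕ) : ℤ) = k + ((0 : ℕ) : ℤ) - p by simp) z
  show c.op t k (Bivar.chCast t.Y' t.δY' e _) = Bivar.chCast t.X' t.δX' _ _
  rw [op_cast c t e, key, chCast_trans]

/-- The class on a piece determines the restriction of the class. -/
theorem rX_op (c : Bivar.Cl p f δX δY) (k : ℤ) (z : ChowOps.CH q.Y' q.δY' k) :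
    rX s q hXs hYs (k - p) (c.op q k z) = (c.res s).op (piece s q) k (rY s q hXs hYs k z) :=
  (op_res c q (s.paste (piece s q)) (hY s q) (hX s q) (paste_g s q).symm (eqF s q) (paste_g' s q).symm
    (setupY q hYs) (setupX q hXs) (setupPY s q hXs hYs) (setupPX s q hXs hYs) (cY s q) (cX s q) k z).symm

section Map

variable {s} {q} {t : Bivar.Sq f δX δY} {h : t.Y' ⟶ q.Y'} {h' : t.X' ⟶ q.X'}
variable (w₁ : h ≫ q.g = t.g) (w₂ : h' ≫ q.f' = t.f' ≫ h) (w₃ : h' ≫ q.g' = t.g')

/-- The induced morphism of parts. -/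
def mapY : (piece s t).Y' ⟶ (piece s q).Y' :=
  pullback.lift (hY s t ≫ h) (pullback.snd t.g s.g) (by
    rw [Category.assoc, w₁]; exact pullback.condition)

theorem mapY_hY : mapY (s := s) w₁ ≫ hY s q = hY s t ≫ h := pullback.lift_fst _ _ _

theorem mapY_g : mapY (s := s) w₁ ≫ (piece s q).g = (piece s t).g := pullback.lift_snd _ _ _

include w₁ in
theorem isPullbackY : IsPullback (hY s t) (mapY (s := s) w₁) h (hY s q) := by
  refine IsPullback.of_bot ?_ (mapY_hY w₁).symm (IsPullback.of_hasPullback q.g s.g)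
  rw [mapY_g, w₁]
  exact IsPullback.of_hasPullback t.g s.g

/-- The induced morphism of parts. -/
def mapX : (piece s t).X' ⟶ (piece s q).X' :=
  pullback.lift (hX s t ≫ h') (pullback.snd t.f' (hY s t) ≫ mapY w₁) (by
    rw [Category.assoc, w₂, ← Category.assoc, eqF, Category.assoc, Category.assoc, mapY_hY])

theorem mapX_hX : mapX (s := s) w₁ w₂ ≫ hX s q = hX s t ≫ h' := pullback.lift_fst _ _ _

theorem mapX_f' : mapX (s := s) w₁ w₂ ≫ (piece s q).f' = (piece s t).f' ≫ mapY w₁ := pullback.lift_snd _ _ _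

include w₃ in
theorem mapX_g' : mapX (s := s) w₁ w₂ ≫ (piece s q).g' = (piece s t).g' := by
  haveI := open_g' s
  rw [← cancel_mono s.g', Category.assoc]
  show _ ≫ toX s q ≫ s.g' = toX s t ≫ s.g'
  rw [toX_g', ← Category.assoc, mapX_hX, Category.assoc, w₃, toX_g']

include w₁ w₂ in
theorem isPullbackX : IsPullback (hX s t) (mapX (s := s) w₁ w₂) h' (hX s q) := by
  refine IsPullback.of_bot ?_ (mapX_hX w₁ w₂).symm (IsPullback.of_hasPullback q.f' (hY s q))
  rw [w₂, show mapX (s := s) w₁ w₂ ≫ pullback.snd q.f' (hY s q) = pullback.snd t.f' (hY s t) ≫ mapY w₁ from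
    mapX_f' w₁ w₂]
  exact (IsPullback.of_hasPullback t.f' (hY s t)).paste_vert (isPullbackY w₁)

end Map

end Groth.L16.BivarPieces
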