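import Groth.Agent.L16.Bivar.Squares

/-!
# The push-forward of a bivariant class along a proper morphism
-/

set_option autoImplicit false
set_option linter.style.haveILetI false
set_option backward.isDefEq.respectTransparency false
set_option linter.unusedSectionVars false

universe u

open CategoryTheory CategoryTheory.Limits AlgebraicGeometry

noncomputable section

namespace Groth.L16.BivarPush

open Groth.L16.BivarOps

variable {X Y Z : Scheme.{u}} {δX : X → ℤ} {δY : Y → ℤ} {δZ : Z → ℤ} (hX : Cyc.IsSetup X δX)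
  (f : X ⟶ Y) [IsProper f] (g : Y ⟶ Z) (hδ : Cyc.DeltaCompat f δX δY)

omit [IsProper f] in
include hX in
theorem exists_delta (s : Bivar.Sq g δY δZ) : ∃ δ : ↥(pullback s.g' f) → ℤ,
    Cyc.IsSetup (pullback s.g' f) δ ∧ Cyc.DeltaCompat (pullback.snd s.g' f) δ δX := by
  haveI := lft_g' s
  exact Groth.L22.Cyc.exists_setup (pullback.snd s.g' f) hX

/-- The square over the composite. -/
abbrev up (s : Bivar.Sq g δY δZ) : Bivar.Sq (f ≫ g) δX δZ :=
  { Y' := s.Y', X' := pullback s.g' f, g := s.g, f' := pullback.fst s.g' f ≫ s.f'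
    g' := pullback.snd s.g' f
    isPullback := (IsPullback.of_hasPullback s.g' f).paste_horiz s.isPullback
    lft := s.lft
    δY' := s.δY', δX' := (exists_delta hX f g s).choose
    compatY := s.compatY
    compatX := (exists_delta hX f g s).choose_spec.2 }

include hδ in
theorem compat_a (s : Bivar.Sq g δY δZ) :
    Cyc.DeltaCompat (pullback.fst s.g' f) (exists_delta hX f g s).choose s.δX' :=
  deltaCompat_side pullback.condition hδ s.compatX (exists_delta hX f g s).choose_spec.2

variable (hY : Cyc.IsSetup Y δY) (hZ : Cyc.IsSetup Z δZ) {p : ℤ} (c : Bivar.Cl p (f ≫ g) δX δZ)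

/-- The operations. -/
def op (s : Bivar.Sq g δY δZ) (k : ℤ) : ChowOps.CH s.Y' s.δY' k →+ ChowOps.CH s.X' s.δX' (k - p) :=
  (pushOp (pullback.fst s.g' f) (exists_delta hX f g s).choose_spec.1 (setupX s hY) (compat_a hX f g hδ s)
    (k - p)).comp (c.op (up hX f g s) k)

theorem op_apply (s : Bivar.Sq g δY δZ) (k : ℤ) (z : ChowOps.CH s.Y' s.δY' k) :
    op hX f g hδ hY c s k z = pushOp (pullback.fst s.g' f) (exists_delta hX f g s).choose_spec.1 (setupX s hY)
      (compat_a hX f g hδ s) (k - p) (c.op (up hX f g s) k z) := rfl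

section Morphism

variable {s t : Bivar.Sq g δY δZ} {h : t.Y' ⟶ s.Y'} {h' : t.X' ⟶ s.X'}
  (w₁ : h ≫ s.g = t.g) (w₂ : h' ≫ s.f' = t.f' ≫ h) (w₃ : h' ≫ s.g' = t.g')

/-- The morphism upstairs. -/
def lift (s t : Bivar.Sq g δY δZ) (h' : t.X' ⟶ s.X') (w₃ : h' ≫ s.g' = t.g') :
    pullback t.g' f ⟶ pullback s.g' f :=
  pullback.lift (pullback.fst t.g' f ≫ h') (pullback.snd t.g' f)
    (by rw [Category.assoc, w₃, pullback.condition])

omit [IsProper f] in
theorem lift_fst : lift f g s t h' w₃ ≫ pullback.fst s.g' f = pullback.fst t.g' f ≫ h' :=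
  pullback.lift_fst _ _ _

omit [IsProper f] in
theorem lift_snd : lift f g s t h' w₃ ≫ pullback.snd s.g' f = pullback.snd t.g' f := pullback.lift_snd _ _ _

theorem lift_sq : IsPullback (lift f g s t h' w₃) (pullback.fst t.g' f) (pullback.fst s.g' f) h' := by
  refine IsPullback.flip (IsPullback.of_bot ?_ (lift_fst f g w₃).symm (IsPullback.of_hasPullback s.g' f))
  rw [lift_snd, w₃]
  exact IsPullback.of_hasPullback t.g' f

include w₂ in
theorem lift_w : lift f g s t h' w₃ ≫ (up hX f g s).f' = (up hX f g t).f' ≫ h := by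
  show lift f g s t h' w₃ ≫ pullback.fst s.g' f ≫ s.f' = (pullback.fst t.g' f ≫ t.f') ≫ h
  rw [← Category.assoc, lift_fst, Category.assoc, Category.assoc, w₂]

end Morphism

/-- The push-forward class. -/
def cls : Bivar.Cl p g δY δZ where
  op := op hX f g hδ hY c
  push s t h _ h' _ w₁ w₂ w₃ k := by
    haveI hl : IsProper (lift f g s t h' w₃) :=
      MorphismProperty.of_isPullback (lift_sq f g w₃).flip ‹IsProper h'›
    refine pushOK_of_apply (setupY t hZ) (setupY s hZ) (compat_h w₁) (setupX t hY) (setupX s hY) (compat_h' w₃)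
      fun z => ?_
    have hlc : Cyc.DeltaCompat (lift f g s t h' w₃) (up hX f g t).δX' (up hX f g s).δX' :=
      compat_h' (s := up hX f g s) (t := up hX f g t) (lift_snd f g w₃)
    have hu := (exists_delta hX f g t).choose_spec.1
    have hv := (exists_delta hX f g s).choose_spec.1
    have hP := push_apply (setupY t hZ) (setupY s hZ) (compat_h w₁) hu hv hlc
      (c.push (up hX f g s) (up hX f g t) h (lift f g s t h' w₃) w₁ (lift_w hX f g w₂ w₃) (lift_snd f g w₃) k) z
    have hm := Bivar.deltaCompat_comp _ h' _ _ _ (compat_a hX f g hδ t) (compat_h' w₃)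
    refine (congrArg (pushOp (pullback.fst s.g' f) hv (setupX s hY) (compat_a hX f g hδ s) (k - p)) hP).trans ?_
    exact (pushOp_comp (lift f g s t h' w₃) (pullback.fst s.g' f) (pullback.fst t.g' f ≫ h') (lift_fst f g w₃)
      hu hv (setupX s hY) hlc _ hm _).trans
      (pushOp_comp (pullback.fst t.g' f) h' (pullback.fst t.g' f ≫ h') rfl hu (setupX t hY) (setupX s hY)
        (compat_a hX f g hδ t) (compat_h' w₃) hm _).symm
  pull s t h _ h' _ r hr hr' w₁ w₂ w₃ k := by
    haveI := lft_h w₁
    haveI := lft_h' w₃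
    haveI hl : Flat (lift f g s t h' w₃) := MorphismProperty.of_isPullback (lift_sq f g w₃).flip ‹Flat h'›
    haveI hl' : LocallyOfFiniteType (lift f g s t h' w₃) :=
      MorphismProperty.of_isPullback (lift_sq f g w₃).flip ‹LocallyOfFiniteType h'›
    have hrl : Cyc.HasRelDim (lift f g s t h' w₃) r :=
      Groth.L22.Cyc.hasRelDim_baseChange (lift_sq f g w₃).flip hr'
    have e : k - p + (r : ℤ) = k + r - p := by ring
    refine pullOK_of_apply hr hr' (setupY t hZ) (setupY s hZ) (compat_h w₁) (setupX t hY) (setupX s hY)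
      (compat_h' w₃) e fun z => ?_
    have hlc : Cyc.DeltaCompat (lift f g s t h' w₃) (up hX f g t).δX' (up hX f g s).δX' :=
      compat_h' (s := up hX f g s) (t := up hX f g t) (lift_snd f g w₃)
    have hu := (exists_delta hX f g t).choose_spec.1
    have hv := (exists_delta hX f g s).choose_spec.1
    have hP := pull_apply hr hrl (setupY t hZ) (setupY s hZ) (compat_h w₁) hu hv hlc
      (c.pull (up hX f g s) (up hX f g t) h (lift f g s t h' w₃) r hr hrl w₁ (lift_w hX f g w₂ w₃)
        (lift_snd f g w₃) k) e z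
    refine (congrArg (pushOp (pullback.fst t.g' f) hu (setupX t hY) (compat_a hX f g hδ t) (k + r - p)) hP).trans ?_
    rw [chCast_pushOp, op_apply]
    exact congrArg (Bivar.chCast t.X' t.δX' e) (pullOp_pushOp_bc (pullback.fst s.g' f) h' (pullback.fst t.g' f)
      (lift f g s t h' w₃) (lift_sq f g w₃) hr' hrl hv (setupX s hY) hu (setupX t hY) _ _ _ hlc _).symm
  gysin s t i _ j _ w₁ w₂ w₃ L hL σ hσ τ hτ k := by
    haveI hl : IsClosedImmersion (lift f g s t j w₃) :=
      MorphismProperty.of_isPullback (lift_sq f g w₃).flip ‹IsClosedImmersion j›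
    have e : k - p - 1 = k - 1 - p := by ring
    have hi := delta_closedImmersion i (compat_h w₁)
    have hj := delta_closedImmersion j (compat_h' w₃)
    have hlc : Cyc.DeltaCompat (lift f g s t j w₃) (up hX f g t).δX' (up hX f g s).δX' :=
      compat_h' (s := up hX f g s) (t := up hX f g t) (lift_snd f g w₃)
    have hl' := delta_closedImmersion (lift f g s t j w₃) hlc
    have hu := (exists_delta hX f g t).choose_spec.1
    have hv := (exists_delta hX f g s).choose_spec.1
    have hN := Groth.L18.Ample.isInvertible_pullback s.f' hL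
    refine gysinOK_of_apply (setupY s hZ) hi hL hσ (setupX s hY) hj hN hτ e fun z => ?_
    let φ := (Scheme.Modules.pullbackComp (pullback.fst s.g' f) s.f').app L
    have haN := Groth.L18.Ample.isInvertible_pullback (pullback.fst s.g' f) hN
    have hN' := Groth.L18.Ample.isInvertible_pullback (pullback.fst s.g' f ≫ s.f') hL
    have h0 := Groth.L22.P1Zero.isZeroSchemeOf_iso (lift f g s t j w₃) (pullback.fst (pullback.fst s.g' f) j)
      (lift_sq f g w₃).isoPullback.hom (lift_sq f g w₃).isoPullback_hom_fst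
      (Groth.L22.C1.isZeroScheme_base (pullback.fst s.g' f) j hN τ hτ)
    have h1 := isZeroScheme_iso φ haN hN' h0
    have hP := gysin_apply (setupY s hZ) hi hL hσ hv hl' hN' h1
      (c.gysin (up hX f g s) (up hX f g t) i (lift f g s t j w₃) w₁ (lift_w hX f g w₂ w₃) (lift_snd f g w₃)
        L hL σ hσ _ h1 k) e z
    refine (congrArg (pushOp (pullback.fst t.g' f) hu (setupX t hY) (compat_a hX f g hδ t) (k - 1 - p)) hP).trans ?_
    rw [chCast_pushOp, op_apply]
    exact congrArg (Bivar.chCast t.X' t.δX' e) (gysinOp_pushOp_bc (pullback.fst s.g' f) j (lift f g s t j w₃)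
      (pullback.fst t.g' f) (lift_sq f g w₃) (setupX s hY) hv (setupX t hY) hu _ _ hj hl' hN hτ hN' h1 φ _).symm

theorem isProperPushClass : Bivar.IsProperPushClass f g c (cls hX f g hδ hY hZ c) := by
  refine ⟨inferInstance, hδ, fun s X' f' _ gX hp δX' hX' k α hα β hβ hc => ?_⟩
  haveI := s.lft
  let s₂ : Bivar.Sq (f ≫ g) δX δZ :=
    ⟨s.Y', X', s.g, f' ≫ s.f', gX, hp.paste_horiz s.isPullback, s.lft, s.δY', δX', s.compatY, hX'⟩
  let θ : X' ⟶ pullback s.g' f := hp.isoPullback.hom
  have hθ1 : θ ≫ pullback.fst s.g' f = f' := hp.isoPullback_hom_fst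
  have hθ2 : θ ≫ pullback.snd s.g' f = gX := hp.isoPullback_hom_snd
  have w₂ : θ ≫ (up hX f g s).f' = s₂.f' ≫ 𝟙 _ := by
    show θ ≫ pullback.fst s.g' f ≫ s.f' = (f' ≫ s.f') ≫ 𝟙 _
    rw [← Category.assoc, hθ1, Category.comp_id]
  have hs := setupY s hZ
  have hid : Cyc.DeltaCompat (𝟙 s.Y') s.δY' s.δY' := Bivar.deltaCompat_id _
  have hθ : Cyc.DeltaCompat θ δX' (up hX f g s).δX' := compat_h' (s := up hX f g s) (t := s₂) hθ2
  have hu := (exists_delta hX f g s).choose_spec.1
  have hs₂ : Cyc.IsSetup X' δX' := setupX s₂ hX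
  have hP := push_apply hs hs hid hs₂ hu hθ
    (c.push (up hX f g s) s₂ (𝟙 _) θ (Category.id_comp _) w₂ hθ2 k) (ChowOps.cl α hα)
  rw [pushOp_id hs hid] at hP
  show op hX f g hδ hY c s k (ChowOps.cl α hα) = _
  have hf' : Cyc.DeltaCompat f' δX' s.δX' := deltaCompat_side hp.w hδ s.compatX hX'
  rw [op_apply, hP, pushOp_comp θ (pullback.fst s.g' f) f' hθ1 hs₂ hu (setupX s hY) hθ _ hf' _]
  exact (congrArg (pushOp f' hs₂ (setupX s hY) hf' (k - p)) hc).trans (pushOp_cl _ _ _ _ _ _)

end Groth.L16.BivarPush
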