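import Groth.Agent.L16.Bivar.Comm

/-!
# The representative shapes from identities on Chow groups
-/

set_option autoImplicit false
set_option linter.style.haveILetI false
set_option backward.isDefEq.respectTransparency false

universe u

open CategoryTheory CategoryTheory.Limits AlgebraicGeometry

noncomputable section

namespace Groth.L16.BivarOps

variable {T T' S S' D E : Scheme.{u}} {δT : T → ℤ} {δT' : T' → ℤ} {δS : S → ℤ} {δS' : S' → ℤ} {δD : D → ℤ}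
  {δE : E → ℤ} {k l k₁ l₁ : ℤ}

theorem pushOK_of_apply {h : T ⟶ S} [IsProper h] {h' : T' ⟶ S'} [IsProper h']
    (hT : Cyc.IsSetup T δT) (hS : Cyc.IsSetup S δS) (hδ : Cyc.DeltaCompat h δT δS)
    (hT' : Cyc.IsSetup T' δT') (hS' : Cyc.IsSetup S' δS') (hδ' : Cyc.DeltaCompat h' δT' δS')
    {φ : ChowOps.CH T δT k →+ ChowOps.CH T' δT' l} {ψ : ChowOps.CH S δS k →+ ChowOps.CH S' δS' l}
    (H : ∀ z, ψ (pushOp h hT hS hδ k z) = pushOp h' hT' hS' hδ' l (φ z)) :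
    Bivar.PushOK δT δT' δS δS' h h' φ ψ := by
  intro α hα
  obtain ⟨β, hβ, e⟩ := Bivar.exists_rep (φ (ChowOps.cl α hα))
  refine ⟨β, hβ, e.symm, ?_⟩
  have := H (ChowOps.cl α hα)
  rw [← e, pushOp_cl, pushOp_cl] at this
  exact this

theorem pullOK_of_apply {h : T ⟶ S} [Flat h] [LocallyOfFiniteType h] {h' : T' ⟶ S'} [Flat h'] [LocallyOfFiniteType h']
    {r : ℕ} (hr : Cyc.HasRelDim h r) (hr' : Cyc.HasRelDim h' r)
    (hT : Cyc.IsSetup T δT) (hS : Cyc.IsSetup S δS) (hδ : Cyc.DeltaCompat h δT δS)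
    (hT' : Cyc.IsSetup T' δT') (hS' : Cyc.IsSetup S' δS') (hδ' : Cyc.DeltaCompat h' δT' δS')
    {φ : ChowOps.CH S δS k →+ ChowOps.CH S' δS' l}
    {ψ : ChowOps.CH T δT (k + r) →+ ChowOps.CH T' δT' l₁} (e : l + r = l₁)
    (H : ∀ z, ψ (pullOp h hr hT hS hδ k z) = Bivar.chCast T' δT' e (pullOp h' hr' hT' hS' hδ' l (φ z))) :
    Bivar.PullOK δS δS' δT δT' h h' (r : ℤ) φ ψ := by
  subst e
  intro α hα
  obtain ⟨β, hβ, e⟩ := Bivar.exists_rep (φ (ChowOps.cl α hα))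
  refine ⟨β, hβ, e.symm, fun α₁ h₁ hα₁ => ?_⟩
  obtain ⟨β₁, hβ₁⟩ := exists_pullCycle h' hr' hT' hδ' β
  have hm := Bivar.pullFun_mem_Zk h' δT' δS' r l hβ β₁ hβ₁
  refine ⟨β₁, hm, hβ₁, ?_⟩
  have := H (ChowOps.cl α hα)
  rw [← e, pullOp_cl h hr hT hS hδ α hα α₁ h₁ hα₁, pullOp_cl h' hr' hT' hS' hδ' β hβ β₁ hβ₁ hm] at this
  exact this

theorem gysinOK_of_apply {i : D ⟶ S} [IsClosedImmersion i] (hS : Cyc.IsSetup S δS)
    (hi : δD = fun d => δS (i d)) {L : S.Modules} (hL : PicF.IsInvertible L)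
    {σ : L.presheaf.obj (Opposite.op ⊤)} (hσ : Cyc.IsZeroSchemeOf i L σ) {j : E ⟶ S'} [IsClosedImmersion j]
    (hS' : Cyc.IsSetup S' δS') (hj : δE = fun d => δS' (j d)) {N : S'.Modules} (hN : PicF.IsInvertible N)
    {τ : N.presheaf.obj (Opposite.op ⊤)} (hτ : Cyc.IsZeroSchemeOf j N τ)
    {φ : ChowOps.CH S δS k →+ ChowOps.CH S' δS' l} {ψ : ChowOps.CH D δD (k - 1) →+ ChowOps.CH E δE l₁}
    (e : l - 1 = l₁)
    (H : ∀ z, ψ (gysinOp i hS hi hL hσ k z) = Bivar.chCast E δE e (gysinOp j hS' hj hN hτ l (φ z))) :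
    Bivar.GysinOK δS δD δS' δE i L σ j N τ φ ψ := by
  subst e
  intro α hα
  obtain ⟨β, hβ, e⟩ := Bivar.exists_rep (φ (ChowOps.cl α hα))
  refine ⟨β, hβ, e.symm, fun w hw γ hγc hγ w' hw' => ?_⟩
  obtain ⟨ζ, hζ⟩ := exists_gysin j hS' hN (σ := τ) β w' hw'
  refine ⟨ζ, gysin_mem hj hβ hζ, hζ, ?_⟩
  have := H (ChowOps.cl α hα)
  rw [← e, gysinOp_cl i hS hi hL hσ α hα w hw γ hγc hγ,
    gysinOp_cl j hS' hj hN hτ β hβ w' hw' ζ hζ (gysin_mem hj hβ hζ)] at this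
  exact this

theorem deltaCompat_side {X Y X' Y' : Scheme.{u}} {f : X ⟶ Y} {g : Y' ⟶ Y} {f' : X' ⟶ Y'} {g' : X' ⟶ X}
    (w : f' ≫ g = g' ≫ f) {δX : X → ℤ} {δY : Y → ℤ} {δX' : X' → ℤ} {δY' : Y' → ℤ}
    (hf : Cyc.DeltaCompat f δX δY) (hg : Cyc.DeltaCompat g δY' δY) (hg' : Cyc.DeltaCompat g' δX' δX) :
    Cyc.DeltaCompat f' δX' δY' :=
  Groth.L22.Bundle.deltaCompat_cancel f' g (w ▸ Bivar.deltaCompat_comp g' f δX' δX δY hg' hf) hg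

end Groth.L16.BivarOps
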