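import Groth.Agent.L16.Bivar.Shapes

/-!
# Squares: setups and comparisons
-/

set_option autoImplicit false
set_option linter.style.haveILetI false
set_option backward.isDefEq.respectTransparency false

universe u

open CategoryTheory CategoryTheory.Limits AlgebraicGeometry

noncomputable section

namespace Groth.L16.BivarOps

variable {X Y : Scheme.{u}} {f : X ⟶ Y} {δX : X → ℤ} {δY : Y → ℤ}

theorem lft_g' (s : Bivar.Sq f δX δY) : LocallyOfFiniteType s.g' :=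
  MorphismProperty.of_isPullback s.isPullback s.lft

theorem setupY (s : Bivar.Sq f δX δY) (hY : Cyc.IsSetup Y δY) : Cyc.IsSetup s.Y' s.δY' :=
  haveI := s.lft
  setup_of_compat s.g hY s.compatY

theorem setupX (s : Bivar.Sq f δX δY) (hX : Cyc.IsSetup X δX) : Cyc.IsSetup s.X' s.δX' :=
  haveI := lft_g' s
  setup_of_compat s.g' hX s.compatX

theorem lft_h {s t : Bivar.Sq f δX δY} {h : t.Y' ⟶ s.Y'} (w : h ≫ s.g = t.g) : LocallyOfFiniteType h := by
  haveI : LocallyOfFiniteType (h ≫ s.g) := w.symm ▸ t.lft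
  exact locallyOfFiniteType_of_comp h s.g

theorem lft_h' {s t : Bivar.Sq f δX δY} {h' : t.X' ⟶ s.X'} (w : h' ≫ s.g' = t.g') : LocallyOfFiniteType h' := by
  haveI : LocallyOfFiniteType (h' ≫ s.g') := w.symm ▸ lft_g' t
  exact locallyOfFiniteType_of_comp h' s.g'

theorem compat_h {s t : Bivar.Sq f δX δY} {h : t.Y' ⟶ s.Y'} (w : h ≫ s.g = t.g) :
    Cyc.DeltaCompat h t.δY' s.δY' :=
  Groth.L22.Bundle.deltaCompat_cancel h s.g (w.symm ▸ t.compatY) s.compatY

theorem compat_h' {s t : Bivar.Sq f δX δY} {h' : t.X' ⟶ s.X'} (w : h' ≫ s.g' = t.g') :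
    Cyc.DeltaCompat h' t.δX' s.δX' :=
  Groth.L22.Bundle.deltaCompat_cancel h' s.g' (w.symm ▸ t.compatX) s.compatX

/-- The square cut out by a morphism of squares. -/
theorem sq_of_morphism {s t : Bivar.Sq f δX δY} {h : t.Y' ⟶ s.Y'} {h' : t.X' ⟶ s.X'}
    (w₁ : h ≫ s.g = t.g) (w₂ : h' ≫ s.f' = t.f' ≫ h) (w₃ : h' ≫ s.g' = t.g') :
    IsPullback t.f' h' h s.f' := by
  refine IsPullback.of_bot ?_ w₂.symm s.isPullback
  rw [w₃, w₁]
  exact t.isPullback

/-- Sections transported along an isomorphism of modules cut out the same zero scheme. -/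
theorem isZeroScheme_iso {S D : Scheme.{u}} {i : D ⟶ S} {L M : S.Modules} (φ : L ≅ M)
    (hL : PicF.IsInvertible L) (hM : PicF.IsInvertible M) {σ : L.presheaf.obj (Opposite.op ⊤)}
    (hσ : Cyc.IsZeroSchemeOf i L σ) : Cyc.IsZeroSchemeOf i M (φ.hom.app ⊤ σ) := by
  have hgerm : ∀ x : S, Groth.L22.C1.mk M (M.presheaf.germ ⊤ x trivial (φ.hom.app ⊤ σ)) =
      Groth.L22.C1.mapSec φ.hom x (Groth.L22.C1.mk L (L.presheaf.germ ⊤ x trivial σ)) := fun x => by
    rw [Groth.L22.C1.mapSec_mk, Groth.L22.C1.stMap_germ]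
  refine ⟨hσ.1.trans (Set.ext fun x => ?_), fun d => ?_⟩
  · show Groth.L22.C1.mk L (L.presheaf.germ ⊤ x trivial σ) = 0 ↔
      Groth.L22.C1.mk M (M.presheaf.germ ⊤ x trivial (φ.hom.app ⊤ σ)) = 0
    rw [hgerm]
    exact ⟨fun h => by rw [h, map_zero], fun h => by_contra fun hs =>
      Groth.L22.C1.mapSec_ne_zero φ.hom hL hM x _ hs h⟩
  · obtain ⟨t, f, ht, hf, hk⟩ := hσ.2 d
    refine ⟨Groth.L22.C1.stMap φ.hom (i d) t, f, Groth.L22.C1.IsGen.map φ.hom ht, ?_, hk⟩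
    rw [← map_smul, ← hf, Groth.L22.C1.stMap_germ]

theorem pushOp_id {S : Scheme.{u}} {δS : S → ℤ} {k : ℤ} (hS : Cyc.IsSetup S δS)
    (hid : Cyc.DeltaCompat (𝟙 S) δS δS) (z : ChowOps.CH S δS k) : pushOp (𝟙 S) hS hS hid k z = z := by
  obtain ⟨α, hα, rfl⟩ := Bivar.exists_rep z
  rw [pushOp_cl]
  exact Bivar.cl_congr (DFunLike.coe_injective (funext fun x => map_iso_apply (𝟙 S) rfl α x)) _ _

theorem chCast_pushOp {S T : Scheme.{u}} {δS : S → ℤ} {δT : T → ℤ} {k l : ℤ} (h : T ⟶ S) [IsProper h]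
    (hT : Cyc.IsSetup T δT) (hS : Cyc.IsSetup S δS) (hδ : Cyc.DeltaCompat h δT δS) (e : k = l)
    (z : ChowOps.CH T δT k) :
    pushOp h hT hS hδ l (Bivar.chCast T δT e z) = Bivar.chCast S δS e (pushOp h hT hS hδ k z) := by
  subst e; rfl

theorem chCast_pullOp {S T : Scheme.{u}} {δS : S → ℤ} {δT : T → ℤ} {k l : ℤ} (h : T ⟶ S) [Flat h]
    [LocallyOfFiniteType h] {r : ℕ} (hr : Cyc.HasRelDim h r)
    (hT : Cyc.IsSetup T δT) (hS : Cyc.IsSetup S δS) (hδ : Cyc.DeltaCompat h δT δS) (e : k = l)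
    (z : ChowOps.CH S δS k) :
    pullOp h hr hT hS hδ l (Bivar.chCast S δS e z) =
      Bivar.chCast T δT (congrArg (· + (r : ℤ)) e) (pullOp h hr hT hS hδ k z) := by
  subst e; rfl

theorem chCast_gysinOp {S D : Scheme.{u}} {δS : S → ℤ} {δD : D → ℤ} {k l : ℤ} (i : D ⟶ S) [IsClosedImmersion i]
    (hS : Cyc.IsSetup S δS) (hi : δD = fun d => δS (i d)) {L : S.Modules} (hL : PicF.IsInvertible L)
    {σ : L.presheaf.obj (Opposite.op ⊤)} (hσ : Cyc.IsZeroSchemeOf i L σ) (e : k = l)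
    (z : ChowOps.CH S δS k) :
    gysinOp i hS hi hL hσ l (Bivar.chCast S δS e z) =
      Bivar.chCast D δD (congrArg (· - 1) e) (gysinOp i hS hi hL hσ k z) := by
  subst e; rfl

end Groth.L16.BivarOps
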