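import Groth.Agent.L16.Bivar.Pieces
import Groth.Agent.L16.CohClosedPush
import Groth.Agent.L22.Cyc.Envelope
import Groth.Agent.L03.BlowPt.Rules
import Groth.Agent.L22.Cyc.FiniteDeg
import Groth.Agent.L22.C1.PullCap
import Groth.Agent.L23.Chow.SchemeSurj

/-!
# A bivariant class vanishing on modifications of integral schemes vanishes
-/

set_option autoImplicit false
set_option linter.style.haveILetI false
set_option linter.unusedSectionVars false
set_option backward.isDefEq.respectTransparency false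

universe u

open CategoryTheory CategoryTheory.Limits AlgebraicGeometry

noncomputable section

namespace Groth.L16.BivarVanish

open Groth.L16.BivarOps

/-- A locally finite family of finite morphisms glues to a finite morphism. -/
theorem isFinite_sigmaDesc_locFin {J : Type u} {W : J → Scheme.{u}} {Y : Scheme.{u}} (c : ∀ a, W a ⟶ Y)
    [∀ a, IsFinite (c a)]
    (hlf : ∀ U : Y.Opens, IsAffineOpen U → {a | (Set.range (c a) ∩ U).Nonempty}.Finite) :
    IsFinite (Sigma.desc c) := by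
  rw [IsZariskiLocalAtTarget.iff_of_iSup_eq_top (P := @IsFinite) _ (iSup_affineOpens_eq_top Y)]
  rintro ⟨U, hU⟩
  let F : Type u := {a : J // (Set.range (c a) ∩ U).Nonempty}
  haveI : Finite F := (hlf U hU).to_subtype
  let V : F → Scheme.{u} := fun a => (c a.1 ⁻¹ᵁ U : (W a.1).Opens)
  let φ₀ : ∀ a : F, V a ⟶ ∐ W := fun a => (c a.1 ⁻¹ᵁ U).ι ≫ Sigma.ι W a.1
  have hι : ∀ (a : J) (w : W a), Sigma.desc c (Sigma.ι W a w) = c a w := fun a w => by
    rw [← Scheme.Hom.comp_apply, Sigma.ι_desc]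
  have hdisj : Pairwise (Function.onFun Disjoint fun a : F => Set.range (φ₀ a)) := fun a b hab => by
    rw [Function.onFun, Set.disjoint_left]
    rintro x ⟨v, rfl⟩ ⟨w, hw⟩
    exact Set.disjoint_left.1 ((TopologicalSpace.Opens.coe_disjoint).2
      (disjoint_opensRange_sigmaι W a.1 b.1 fun h => hab (Subtype.ext h)))
      ⟨(c a.1 ⁻¹ᵁ U).ι v, (Scheme.Hom.comp_apply _ _ _).symm⟩
      ⟨(c b.1 ⁻¹ᵁ U).ι w, (Scheme.Hom.comp_apply _ _ _).symm.trans hw⟩
  haveI : IsOpenImmersion (Sigma.desc φ₀) := isOpenImmersion_sigmaDesc _ φ₀ hdisj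
  have hrange : Set.range (Sigma.desc φ₀) = Set.range (Sigma.desc c ⁻¹ᵁ U).ι := by
    rw [Scheme.Opens.range_ι]
    refine Set.ext fun x => ⟨?_, fun hx => ?_⟩
    · rintro ⟨v, rfl⟩
      have hV : ∀ (a : F) (v : V a), Sigma.desc c (Sigma.desc φ₀ (Sigma.ι V a v)) ∈ U := fun a v => by
        rw [← Scheme.Hom.comp_apply (Sigma.ι V a), Sigma.ι_desc, Scheme.Hom.comp_apply, hι]
        exact v.2
      obtain ⟨a, v, rfl⟩ := (sigmaOpenCover V).exists_eq v
      exact hV a v
    · obtain ⟨a, w, rfl⟩ := (sigmaOpenCover W).exists_eq x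
      rw [show (sigmaOpenCover W).f a = Sigma.ι W a from rfl] at hx ⊢
      have hw : c a w ∈ U := hι a w ▸ hx
      let b : F := ⟨a, _, ⟨w, rfl⟩, hw⟩
      refine ⟨Sigma.ι V b ⟨w, hw⟩, ?_⟩
      rw [← Scheme.Hom.comp_apply, Sigma.ι_desc, Scheme.Hom.comp_apply]
      rfl
  let e := IsOpenImmersion.isoOfRangeEq (Sigma.desc φ₀) (Sigma.desc c ⁻¹ᵁ U).ι hrange
  haveI : ∀ a : F, IsFinite (c a.1 ∣_ U) := fun a => IsZariskiLocalAtTarget.restrict (P := @IsFinite) (inferInstance : IsFinite (c a.1)) U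
  haveI := Groth.L23.Chow.isFinite_sigmaDesc fun a : F => c a.1 ∣_ U
  have key : e.hom ≫ (Sigma.desc c ∣_ U) = Sigma.desc fun a : F => c a.1 ∣_ U := by
    rw [← cancel_mono U.ι, Category.assoc, morphismRestrict_ι, ← Category.assoc,
      show e.hom ≫ (Sigma.desc c ⁻¹ᵁ U).ι = Sigma.desc φ₀ from IsOpenImmersion.isoOfRangeEq_hom_fac _ _ hrange]
    refine Sigma.hom_ext _ _ fun a => ?_
    rw [Sigma.ι_desc_assoc, Sigma.ι_desc_assoc, morphismRestrict_ι, Category.assoc, Sigma.ι_desc]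
  exact (MorphismProperty.cancel_left_of_respectsIso @IsFinite e.hom _).1 (key ▸ inferInstance)

variable {X Y : Scheme.{u}} {δX : X → ℤ} {δY : Y → ℤ} {f : X ⟶ Y} {p : ℤ}

/-- A square pulled back along a morphism to its test scheme. -/
theorem exists_over (q : Bivar.Sq f δX δY) (hX : Cyc.IsSetup X δX) (hY : Cyc.IsSetup Y δY) {T : Scheme.{u}}
    (m : T ⟶ q.Y') [LocallyOfFiniteType m] :
    ∃ (δT : T → ℤ) (δT' : ↥(pullback q.f' m) → ℤ), Cyc.DeltaCompat m δT q.δY' ∧
      Cyc.DeltaCompat (pullback.fst q.f' m) δT' q.δX' := by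
  obtain ⟨δT, -, hT⟩ := Groth.L22.Cyc.exists_setup m (setupY q hY)
  obtain ⟨δT', -, hT'⟩ := Groth.L22.Cyc.exists_setup (pullback.fst q.f' m) (setupX q hX)
  exact ⟨δT, δT', hT, hT'⟩

/-- A square pulled back along a morphism to its test scheme. -/
@[reducible] def overSq (q : Bivar.Sq f δX δY) {T : Scheme.{u}} (m : T ⟶ q.Y') [LocallyOfFiniteType m] (δT : T → ℤ)
    (δT' : ↥(pullback q.f' m) → ℤ) (hT : Cyc.DeltaCompat m δT q.δY')
    (hT' : Cyc.DeltaCompat (pullback.fst q.f' m) δT' q.δX') : Bivar.Sq f δX δY where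
  Y' := T
  X' := pullback q.f' m
  g := m ≫ q.g
  f' := pullback.snd q.f' m
  g' := pullback.fst q.f' m ≫ q.g'
  isPullback := (IsPullback.of_hasPullback q.f' m).flip.paste_vert q.isPullback
  lft := haveI := q.lft; inferInstance
  δY' := δT
  δX' := δT'
  compatY := Bivar.deltaCompat_comp m q.g δT q.δY' δY hT q.compatY
  compatX := Bivar.deltaCompat_comp (pullback.fst q.f' m) q.g' δT' q.δX' δX hT' q.compatX

/-- A cycle supported at one point. -/
theorem exists_single (T : Scheme.{u}) (t : T) (n : ℤ) :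
    ∃ α : AlgebraicCycle T ℤ, α t = n ∧ ∀ y, y ≠ t → α y = 0 := by
  classical
  obtain ⟨α, hα⟩ := Groth.L22.C1.exists_cycle (fun y : T => if y = t then n else 0) fun x =>
    ⟨⊤, trivial, (Set.finite_singleton t).subset fun y hy => by_contra fun h => hy.1 (if_neg h)⟩
  exact ⟨α, by simp [hα], fun y hy => by simp [hα, hy]⟩

variable (hX : Cyc.IsSetup X δX) (hY : Cyc.IsSetup Y δY) (c : Bivar.Cl p f δX δY)
  (h3 : ∀ (s : Bivar.Sq f δX δY) [AlgebraicGeometry.IsIntegral s.Y'], ∃ (t : Bivar.Sq s.f' s.δX' s.δY')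
    (_ : IrreducibleSpace t.Y') (_ : IsProper t.g), t.g (genericPoint t.Y') = genericPoint s.Y' ∧
    IsIso (t.g.stalkMap (genericPoint t.Y')) ∧ ∀ (k : ℤ) (α : AlgebraicCycle t.Y' ℤ)
      (hα : α ∈ Cyc.Zk t.Y' t.δY' k), α (genericPoint t.Y') = 1 → (∀ y : t.Y', y ≠ genericPoint t.Y' → α y = 0) →
        c.op (s.paste t) k (ChowOps.cl α hα) = 0)

include hX hY h3 in
/-- The class kills every multiple of the fundamental cycle of an integral test scheme. -/
theorem op_generic (q : Bivar.Sq f δX δY) [AlgebraicGeometry.IsIntegral q.Y'] (k : ℤ)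
    (α : AlgebraicCycle q.Y' ℤ) (hα : α ∈ Cyc.Zk q.Y' q.δY' k)
    (h0 : ∀ y, y ≠ genericPoint q.Y' → α y = 0) : c.op q k (ChowOps.cl α hα) = 0 := by
  by_cases hn : α (genericPoint q.Y') = 0
  · rw [Bivar.cl_congr (show α = 0 from DFunLike.ext _ _ fun y => by
      by_cases hy : y = genericPoint q.Y'
      · rw [hy, hn]; rfl
      · exact h0 y hy) hα (ChowOps.zk q.Y' q.δY' k).zero_mem, Bivar.cl_zero, map_zero]
  have hk : q.δY' (genericPoint q.Y') = k := by_contra fun h => hn (hα _ h)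
  obtain ⟨t, hi, hp, htg, hiso, hkill⟩ := h3 q
  haveI := hi
  haveI := hp
  haveI := hiso
  haveI := t.lft
  have hd := Groth.L03.BlowPt.residueDegree_eq_one_of_isIso (b := t.g) (genericPoint t.Y')
  have hδ : t.δY' (genericPoint t.Y') = k := by
    rw [Groth.L22.Cyc.deltaCompat_shift_of_residueDegree t.g t.compatY (by rw [hd]; exact one_ne_zero), htg, hk]
  obtain ⟨e, he, he0⟩ := exists_single t.Y' (genericPoint t.Y') 1
  have hem : e ∈ Cyc.Zk t.Y' t.δY' k := fun y hy => he0 y fun h => hy (h ▸ hδ)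
  have hz := hkill k e hem he he0
  haveI : IsProper t.g' := MorphismProperty.of_isPullback t.isPullback hp
  have hp' := push_apply (setupY (q.paste t) hY) (setupY q hY) t.compatY (setupX (q.paste t) hX) (setupX q hX)
    t.compatX (c.push q (q.paste t) t.g t.g' rfl t.isPullback.w.symm rfl k) (ChowOps.cl e hem)
  rw [hz, map_zero, pushOp_cl] at hp'
  classical
  have key : ∀ y, AlgebraicCycle.map t.g t.δY' q.δY' e y = if y = genericPoint q.Y' then 1 else 0 := fun y => by
    show (∑ᶠ x ∈ t.g ⁻¹' {y}, e x * ((AlgebraicCycle.mapCoeff t.g t.δY' q.δY' x : ℕ) : ℤ)) = _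
    by_cases hy : y = genericPoint q.Y'
    · rw [if_pos hy, finsum_mem_inter_support_eq' _ (t.g ⁻¹' {y}) {genericPoint t.Y'} ?_, finsum_mem_singleton,
        Groth.L22.Cyc.mapCoeff_eq t.g t.compatY, hd, he]
      · simp
      · intro x hx
        have : x = genericPoint t.Y' := by_contra fun h => hx (by simp [he0 x h])
        exact ⟨fun _ => this, fun _ => by rw [Set.mem_preimage, this, htg, hy]; rfl⟩
    · rw [if_neg hy]
      refine finsum_mem_eq_zero_of_forall_eq_zero fun x hx => ?_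
      rw [he0 x fun h => hy ((show t.g x = y from hx).symm.trans ((congrArg t.g h).trans htg)), zero_mul]
  have hα' : α = α (genericPoint q.Y') • AlgebraicCycle.map t.g t.δY' q.δY' e := DFunLike.ext _ _ fun y => by
    rw [Function.locallyFinsuppWithin.coe_zsmul, Pi.smul_apply, smul_eq_mul, key]
    by_cases hy : y = genericPoint q.Y'
    · rw [if_pos hy, hy, mul_one]
    · rw [if_neg hy, mul_zero, h0 y hy]
  have hm := Bivar.cycMap_mem_Zk t.g t.δY' q.δY' k hem
  rw [Bivar.cl_congr hα' hα ((ChowOps.zk q.Y' q.δY' k).zsmul_mem hm _),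
    show ChowOps.cl (α (genericPoint q.Y') • AlgebraicCycle.map t.g t.δY' q.δY' e) _ =
      α (genericPoint q.Y') • ChowOps.cl (AlgebraicCycle.map t.g t.δY' q.δY' e) hm from rfl, map_zsmul, hp',
    smul_zero]

include hX hY h3 in
theorem eq_zero : c = 0 := by
  classical
  refine Bivar.Cl.ext (funext fun q => funext fun k => AddMonoidHom.ext fun z => ?_)
  show c.op q k z = 0
  obtain ⟨α, hα, rfl⟩ := Bivar.exists_rep z
  have hqY := setupY q hY
  have hqX := setupX q hX
  haveI := hqY.1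
  let S : Type u := {ξ : q.Y' // α ξ ≠ 0}
  choose W i hi hW hgen hrange using fun a : S => Groth.L16.CohClosedPush.exists_integral a.1
  haveI := hi
  haveI := hW
  haveI : ∀ a, IsFinite (i a) := fun a => inferInstance
  haveI : IsFinite (Sigma.desc i) := isFinite_sigmaDesc_locFin i fun U hU => by
    refine Set.Finite.of_finite_image ((α.locallyFiniteSupport.finite_inter_support_of_isCompact hU.isCompact).subset ?_)
      Subtype.val_injective.injOn
    rintro _ ⟨a, ⟨x, hx, hxU⟩, rfl⟩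
    rw [hrange] at hx
    exact ⟨(specializes_iff_mem_closure.2 hx).mem_open U.isOpen hxU, a.2⟩
  -- the cycle on the disjoint union
  let π := Sigma.desc i
  let pt : S → ↥(∐ W) := fun a => Sigma.ι W a (genericPoint (W a))
  have hπ : ∀ a, π (pt a) = a.1 := fun a => by
    rw [← Scheme.Hom.comp_apply, Sigma.ι_desc, hgen]
  have hdeg : ∀ a, π.residueDegree (pt a) = 1 := fun a => by
    have h1 := Groth.L22.Cyc.residueDegree_congr _ (Sigma.ι_desc i a) (genericPoint (W a))
    rw [Groth.L22.Cyc.residueDegree_comp, Groth.L22.Cyc.residueDegree_eq_one (i a) _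
      (Groth.L22.FibreDim.residueFieldMap_bijective _ _)] at h1
    exact Nat.eq_one_of_mul_eq_one_right h1
  obtain ⟨δT, δT', hT, hT'⟩ := exists_over q hX hY π
  let F : ↥(∐ W) → ℤ := fun y => if ∃ a, pt a = y then α (π y) else 0
  have hF : ∀ y, F y ≠ 0 → ∃ h : α (π y) ≠ 0, pt ⟨π y, h⟩ = y := fun y hy => by
    by_cases h : ∃ a, pt a = y
    · obtain ⟨a, rfl⟩ := h
      have h' : α (π (pt a)) ≠ 0 := by rw [hπ]; exact a.2
      exact ⟨h', congrArg pt (Subtype.ext (hπ a))⟩
    · exact absurd (if_neg h) hy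
  obtain ⟨β, hβ⟩ := Groth.L22.C1.exists_cycle F fun y => by
    obtain ⟨V, hV, hyV, -⟩ := exists_isAffineOpen_mem_and_subset (x := π y) (U := ⊤) trivial
    haveI : Finite {a : S // a.1 ∈ V} := Set.Finite.to_subtype (s := {a : S | a.1 ∈ V})
      (Set.Finite.of_finite_image ((α.locallyFiniteSupport.finite_inter_support_of_isCompact hV.isCompact).subset
        (by rintro _ ⟨a, ha, rfl⟩; exact ⟨ha, a.2⟩)) Subtype.val_injective.injOn)
    refine ⟨π ⁻¹ᵁ V, hyV, (Set.finite_range fun a : {a : S // a.1 ∈ V} => pt a.1).subset fun x hx => ?_⟩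
    obtain ⟨h, e⟩ := hF x hx.1
    exact ⟨⟨⟨π x, h⟩, hx.2⟩, e⟩
  have hβm : β ∈ Cyc.Zk (∐ W) δT k := fun y hy => by
    rw [hβ]
    by_contra h
    obtain ⟨h', e⟩ := hF y h
    have hd : π.residueDegree y ≠ 0 := by rw [← e, hdeg]; exact one_ne_zero
    exact h' (hα _ fun e' => hy ((Groth.L22.Cyc.deltaCompat_shift_of_residueDegree π hT hd).trans e'))
  have hmap : AlgebraicCycle.map π δT q.δY' β = α := DFunLike.ext _ _ fun x => by
    show (∑ᶠ y ∈ π ⁻¹' {x}, β y * ((AlgebraicCycle.mapCoeff π δT q.δY' y : ℕ) : ℤ)) = α x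
    rw [hβ]
    by_cases hx : α x = 0
    · rw [hx]
      refine finsum_mem_eq_zero_of_forall_eq_zero fun y hy => ?_
      rw [show F y = 0 from by_contra fun h => (hF y h).1 ((congrArg α (show π y = x from hy)).trans hx), zero_mul]
    · rw [finsum_mem_inter_support_eq' _ (π ⁻¹' {x}) {pt ⟨x, hx⟩} ?_, finsum_mem_singleton,
        Groth.L22.Cyc.mapCoeff_eq π hT, hdeg, show F (pt ⟨x, hx⟩) = α x from (if_pos ⟨_, rfl⟩).trans (congrArg α (hπ _))]
      · simp
      · intro y hy
        obtain ⟨h, e⟩ := hF y (left_ne_zero_of_mul hy)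
        refine ⟨fun hyx => e.symm.trans (congrArg pt (Subtype.ext hyx)), fun hyx => ?_⟩
        rw [Set.mem_preimage, show y = pt ⟨x, hx⟩ from hyx, hπ]; rfl
  let Q := overSq q π δT δT' hT hT'
  haveI : IsProper π := inferInstance
  haveI : IsProper (pullback.fst q.f' π) := inferInstance
  have hp := push_apply (setupY Q hY) hqY hT (setupX Q hX) hqX hT'
    (c.push q Q π (pullback.fst q.f' π) rfl pullback.condition rfl k) (ChowOps.cl β hβm)
  rw [pushOp_cl, Bivar.cl_congr hmap _ hα] at hp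
  rw [hp]
  suffices hz : c.op Q k (ChowOps.cl β hβm) = 0 by rw [hz, map_zero]
  -- restrict to the components
  choose δa δa' ha ha' using fun a : S => exists_over Q hX hY (Sigma.ι W a)
  refine resOp_injective (fun a : S => pullback.fst Q.f' (Sigma.ι W a)) ?_ ?_ (setupX Q hX)
    (fun a => setupX (overSq Q (Sigma.ι W a) (δa a) (δa' a) (ha a) (ha' a)) hX) ha' _ _ fun a => ?_
  · intro a b hab
    rw [Scheme.Pullback.range_fst, Scheme.Pullback.range_fst]
    refine Disjoint.preimage _ ?_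
    exact (TopologicalSpace.Opens.coe_disjoint).2 (disjoint_opensRange_sigmaι W a b hab)
  · intro x
    obtain ⟨a, w, hw⟩ := (sigmaOpenCover W).exists_eq (Q.f' x)
    exact ⟨a, by rw [Scheme.Pullback.range_fst]; exact ⟨w, hw⟩⟩
  let Qa := overSq Q (Sigma.ι W a) (δa a) (δa' a) (ha a) (ha' a)
  have e := BivarPieces.op_res c Q Qa (Sigma.ι W a) (pullback.fst Q.f' (Sigma.ι W a)) rfl pullback.condition rfl
    (setupY Q hY) (setupX Q hX) (setupY Qa hY) (setupX Qa hX) (ha a) (ha' a) k (ChowOps.cl β hβm)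
  obtain ⟨γ, hγ⟩ := exists_resCycle (Sigma.ι W a) (setupY Qa hY) (ha a) β
  have hγm := res_mem (Sigma.ι W a) (ha a) hβm hγ
  rw [resOp_cl (Sigma.ι W a) (setupY Q hY) (setupY Qa hY) (ha a) β hβm γ hγ hγm] at e
  haveI : AlgebraicGeometry.IsIntegral Qa.Y' := hW a
  rw [map_zero, ← e]
  refine op_generic hX hY c h3 Qa k γ hγm fun y hy => ?_
  rw [hγ, hβ]
  refine if_neg ?_
  rintro ⟨b, hb⟩
  obtain rfl := eq_of_apply_eq (fun b => Sigma.ι W b) (fun b d hbd =>
    (TopologicalSpace.Opens.coe_disjoint).2 (disjoint_opensRange_sigmaι W b d hbd)) hb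
  exact hy ((Sigma.ι W b).isOpenEmbedding.injective hb).symm

end Groth.L16.BivarVanish
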